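import Cfsg.Agent.Char2x2.Basic
import Cfsg.Agent.Lib.SmallGroups.Action
import Cfsg.Agent.Lib.LinearGroup.Card

set_option autoImplicit false

/-! Conjugacy and centralizers in `GL₂` and `SL₂` over a field. -/

namespace Cfsg.Agent.Char2x2

open Matrix

variable {F : Type*} [Field F]

local notation "GL2" => Matrix.GeneralLinearGroup (Fin 2) F
local notation "SL2" => Matrix.SpecialLinearGroup (Fin 2) F

/-! ### `GL₂` -/

/-- The underlying matrix. -/
abbrev gm (g : GL2) : Matrix (Fin 2) (Fin 2) F := (g : Matrix (Fin 2) (Fin 2) F)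

theorem gm_mul (g h : GL2) : gm (g * h) = gm g * gm h := rfl

theorem gm_one : gm (1 : GL2) = 1 := rfl

theorem isUnit_det_gm (g : GL2) : IsUnit (gm g).det :=
  (Matrix.isUnit_iff_isUnit_det _).mp g.isUnit

theorem gl_trace_det {g h : GL2} (c : IsConj g h) :
    (gm g).trace = (gm h).trace ∧ (gm g).det = (gm h).det := by
  obtain ⟨x, rfl⟩ := isConj_iff.mp c
  simp only [gm, Units.val_mul]
  exact ⟨(Matrix.trace_units_conj x _).symm, (Matrix.det_units_conj x _).symm⟩

theorem gl_nonScalar {g h : GL2} (c : IsConj g h) (hg : NonScalar (gm g)) : NonScalar (gm h) := by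
  obtain ⟨x, rfl⟩ := isConj_iff.mp c
  by_contra hns
  have e := smul_one_of_not_nonScalar hns
  set a := (gm (x * g * x⁻¹)) 0 0
  have : gm g = a • 1 := by
    have h2 : gm g = gm x⁻¹ * gm (x * g * x⁻¹) * gm x := by
      simp only [gm, ← Units.val_mul]
      congr 1
      group
    rw [h2, e, Matrix.mul_smul, Matrix.smul_mul, mul_one, gm, gm, ← Units.val_mul, inv_mul_cancel,
      Units.val_one]
  exact not_nonScalar_smul_one a (this ▸ hg)

/-- Companion matrix as an element of `GL₂`. -/
noncomputable def compGL (t : F) (d : Fˣ) : GL2 :=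
  Matrix.GeneralLinearGroup.mk'' (comp t d) (by rw [det_comp]; exact d.isUnit)

theorem gm_compGL (t : F) (d : Fˣ) : gm (compGL t d) = comp t d := rfl

theorem isConj_compGL {g : GL2} (hg : NonScalar (gm g)) (d : Fˣ) (hd : (d : F) = (gm g).det) :
    IsConj g (compGL (gm g).trace d) := by
  obtain ⟨a, b, hab⟩ := exists_det_basisMat_ne hg
  let P : GL2 := Matrix.GeneralLinearGroup.mk'' (basisMat (gm g) a b) (isUnit_iff_ne_zero.mpr hab)
  have e : g * P = P * compGL (gm g).trace d := by
    apply Units.ext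
    simp only [Units.val_mul]
    show gm g * basisMat (gm g) a b = basisMat (gm g) a b * comp (gm g).trace d
    rw [hd, mul_basisMat]
  exact isConj_iff.mpr ⟨P⁻¹, by rw [inv_inv, mul_assoc, e, inv_mul_cancel_left]⟩

theorem gl_isConj {g h : GL2} (hg : NonScalar (gm g)) (hh : NonScalar (gm h))
    (ht : (gm g).trace = (gm h).trace) (hd : (gm g).det = (gm h).det) : IsConj g h := by
  have h1 := isConj_compGL hg (isUnit_det_gm g).unit rfl
  have h2 := isConj_compGL hh (isUnit_det_gm g).unit hd
  rw [← ht] at h2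
  exact h1.trans h2.symm

theorem gl_card_classes [Fintype F] :
    Nat.card (ConjClasses GL2) = Fintype.card F ^ 2 - 1 := by
  classical
  let f : Fˣ ⊕ F × Fˣ → ConjClasses GL2 := Sum.elim
    (fun c => ConjClasses.mk (Matrix.GeneralLinearGroup.scalar (Fin 2) c))
    (fun td => ConjClasses.mk (compGL td.1 td.2))
  have hsc : ∀ c : Fˣ, gm (Matrix.GeneralLinearGroup.scalar (Fin 2) c) = (c : F) • 1 := fun c => by
    ext i j
    fin_cases i <;> fin_cases j <;> simp [gm, Matrix.GeneralLinearGroup.scalar]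
  have hbij : Function.Bijective f := by
    constructor
    · rintro (c | ⟨t, d⟩) (c' | ⟨t', d'⟩) e <;>
        simp only [f, Sum.elim_inl, Sum.elim_inr, ConjClasses.mk_eq_mk_iff_isConj] at e
      · congr 1
        obtain ⟨x, hx⟩ := isConj_iff.mp e
        have : gm (Matrix.GeneralLinearGroup.scalar (Fin 2) c') = (c : F) • 1 := by
          rw [← hx, gm_mul, gm_mul, hsc, Matrix.mul_smul, Matrix.smul_mul, mul_one, ← gm_mul,
            mul_inv_cancel, gm_one]
        rw [hsc] at this
        exact Units.ext (by have := congrFun (congrFun this 0) 0; simpa using this.symm)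
      · exact absurd (hsc c ▸ gl_nonScalar e.symm (nonScalar_comp _ _)) (not_nonScalar_smul_one _)
      · exact absurd (hsc c' ▸ gl_nonScalar e (nonScalar_comp _ _)) (not_nonScalar_smul_one _)
      · obtain ⟨ht, hd⟩ := gl_trace_det e
        rw [gm_compGL, gm_compGL, trace_comp, trace_comp] at ht
        rw [gm_compGL, gm_compGL, det_comp, det_comp] at hd
        rw [ht, Units.ext hd]
    · intro C
      obtain ⟨g, rfl⟩ := ConjClasses.mk_surjective C
      by_cases hg : NonScalar (gm g)
      · exact ⟨Sum.inr ((gm g).trace, (isUnit_det_gm g).unit),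
          ConjClasses.mk_eq_mk_iff_isConj.mpr (isConj_compGL hg _ rfl).symm⟩
      · have e := smul_one_of_not_nonScalar hg
        have hne : (gm g) 0 0 ≠ 0 := fun h0 => (isUnit_det_gm g).ne_zero (by rw [e, h0]; simp)
        refine ⟨Sum.inl (Units.mk0 _ hne), congrArg ConjClasses.mk (Units.ext ?_)⟩
        exact (hsc _).trans e.symm
  rw [← Nat.card_eq_of_bijective f hbij, Nat.card_sum, Nat.card_prod, Nat.card_units,
    Nat.card_eq_fintype_card]
  have hq : 1 ≤ Fintype.card F := Fintype.card_pos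
  obtain ⟨r, hr⟩ : ∃ r, Fintype.card F = r + 1 := ⟨_, (Nat.sub_add_cancel hq).symm⟩
  rw [hr, show (r + 1) ^ 2 - 1 = r + (r + 1) * r by
    rw [show (r + 1) ^ 2 = r + (r + 1) * r + 1 by ring]; simp]
  simp

theorem gl_centralizer_card {g : GL2} (hg : NonScalar (gm g)) :
    Nat.card (Subgroup.centralizer ({g} : Set GL2)) =
      Nat.card {w : F × F // nrm (gm g).trace (gm g).det w.1 w.2 ≠ 0} := by
  refine (Nat.card_congr (Equiv.ofBijective
    (fun w : {w : F × F // nrm (gm g).trace (gm g).det w.1 w.2 ≠ 0} =>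
      (⟨Matrix.GeneralLinearGroup.mk'' (w.1.1 • 1 + w.1.2 • gm g)
          (by rw [det_add_smul]; exact isUnit_iff_ne_zero.mpr w.2), ?_⟩ :
        Subgroup.centralizer ({g} : Set GL2))) ⟨?_, ?_⟩)).symm
  · rw [Subgroup.mem_centralizer_singleton_iff]
    apply Units.ext
    simp only [Units.val_mul]
    show (w.1.1 • 1 + w.1.2 • gm g) * gm g = gm g * (w.1.1 • 1 + w.1.2 • gm g)
    simp [add_mul, mul_add]
  · rintro ⟨⟨x, y⟩, hw⟩ ⟨⟨x', y'⟩, hw'⟩ e
    obtain ⟨rfl, rfl⟩ := smul_add_injective hg (congrArg (fun u => gm (Subtype.val u)) e)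
    rfl
  · rintro ⟨h, hh⟩
    rw [Subgroup.mem_centralizer_singleton_iff] at hh
    obtain ⟨x, y, hxy⟩ := exists_of_commute hg (show gm h * gm g = gm g * gm h by
      simp only [gm, ← Units.val_mul, hh])
    refine ⟨⟨(x, y), ?_⟩, Subtype.ext (Units.ext hxy.symm)⟩
    have := (isUnit_det_gm h).ne_zero
    rwa [hxy, det_add_smul] at this

/-! ### `SL₂` -/

/-- The underlying matrix. -/
abbrev sm (g : SL2) : Matrix (Fin 2) (Fin 2) F := (g : Matrix (Fin 2) (Fin 2) F)

/-- The standard non-scalar element of trace `t` with form value `δ`. -/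
def kmat (t : F) (δ : Fˣ) : SL2 :=
  ⟨!![0, -(δ : F)⁻¹; (δ : F), t], by simp [Matrix.det_fin_two]⟩

theorem sm_kmat (t : F) (δ : Fˣ) : sm (kmat t δ) = !![0, -(δ : F)⁻¹; (δ : F), t] := rfl

theorem trace_kmat (t : F) (δ : Fˣ) : (sm (kmat t δ)).trace = t := by
  simp [sm_kmat, Matrix.trace_fin_two]

theorem nonScalar_kmat (t : F) (δ : Fˣ) : NonScalar (sm (kmat t δ)) :=
  Or.inr (Or.inl (by simp [sm_kmat]))

theorem det_basisMat_kmat (t : F) (δ : Fˣ) (x y : F) :
    (basisMat (sm (kmat t δ)) x y).det = (δ : F) * nrm t 1 x (y * (δ : F)⁻¹) := by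
  rw [det_basisMat, sm_kmat]
  simp [nrm]
  field_simp [δ.ne_zero]
  -- done

theorem isConj_kmat {g : SL2} {a b : F} {δ : Fˣ} (h : (basisMat (sm g) a b).det = δ) :
    IsConj g (kmat (sm g).trace δ) := by
  let P : SL2 := ⟨!![(basisMat (sm g) a b) 0 0, (δ : F)⁻¹ * (basisMat (sm g) a b) 0 1;
      (basisMat (sm g) a b) 1 0, (δ : F)⁻¹ * (basisMat (sm g) a b) 1 1], by
    rw [Matrix.det_fin_two] at h
    simp only [Matrix.det_fin_two_of]
    field_simp [δ.ne_zero]
    linear_combination h⟩
  have e : g * P = P * kmat (sm g).trace δ := by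
    apply Subtype.ext
    simp only [Matrix.SpecialLinearGroup.coe_mul]
    have h1 := mul_basisMat (sm g) a b
    rw [show (sm g).det = 1 from g.2] at h1
    have e00 := congrFun (congrFun h1 0) 0
    have e01 := congrFun (congrFun h1 0) 1
    have e10 := congrFun (congrFun h1 1) 0
    have e11 := congrFun (congrFun h1 1) 1
    simp only [comp, Matrix.mul_apply, Fin.sum_univ_two] at e00 e01 e10 e11
    simp at e00 e01 e10 e11
    ext i j
    fin_cases i <;> fin_cases j
    · simp [P, kmat, Matrix.mul_apply, Fin.sum_univ_two, δ.ne_zero]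
      field_simp [δ.ne_zero]
      linear_combination e00
    · simp [P, kmat, Matrix.mul_apply, Fin.sum_univ_two, δ.ne_zero]
      field_simp [δ.ne_zero]
      linear_combination e01
    · simp [P, kmat, Matrix.mul_apply, Fin.sum_univ_two, δ.ne_zero]
      field_simp [δ.ne_zero]
      linear_combination e10
    · simp [P, kmat, Matrix.mul_apply, Fin.sum_univ_two, δ.ne_zero]
      field_simp [δ.ne_zero]
      linear_combination e11
  exact isConj_iff.mpr ⟨P⁻¹, by rw [inv_inv, mul_assoc, e, inv_mul_cancel_left]⟩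

theorem exists_isConj_kmat {g : SL2} (hg : NonScalar (sm g)) :
    ∃ δ : Fˣ, IsConj g (kmat (sm g).trace δ) := by
  obtain ⟨a, b, hab⟩ := exists_det_basisMat_ne hg
  exact ⟨Units.mk0 _ hab, isConj_kmat (a := a) (b := b) rfl⟩

theorem sl_nonScalar {g h : SL2} (c : IsConj g h) (hg : NonScalar (sm g)) : NonScalar (sm h) := by
  have := gl_nonScalar (g := Matrix.SpecialLinearGroup.toGL g) (h := Matrix.SpecialLinearGroup.toGL h)
    (Matrix.SpecialLinearGroup.toGL.map_isConj c) hg
  exact this

theorem sl_trace {g h : SL2} (c : IsConj g h) : (sm g).trace = (sm h).trace :=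
  (gl_trace_det (Matrix.SpecialLinearGroup.toGL.map_isConj c)).1

/-- `kmat t δ` is conjugate to `kmat t δ'` iff `δ'` is `δ` times a norm. -/
theorem isConj_kmat_iff (t : F) (δ δ' : Fˣ) :
    IsConj (kmat t δ) (kmat t δ') ↔ ∃ x y, (δ' : F) = δ * nrm t 1 x y := by
  constructor
  · intro c
    obtain ⟨x, hx⟩ := isConj_iff.mp c.symm
    have key : ∀ a b : F,
        (basisMat (sm (x * kmat t δ' * x⁻¹)) (sm x 0 0 * a + sm x 0 1 * b) (sm x 1 0 * a + sm x 1 1 * b)).det =
          (basisMat (sm (kmat t δ')) a b).det := by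
      intro a b
      have hX : sm (x * kmat t δ' * x⁻¹) * sm x = sm x * sm (kmat t δ') := by
        simp only [sm, ← Matrix.SpecialLinearGroup.coe_mul, inv_mul_cancel_right]
      have e : basisMat (sm (x * kmat t δ' * x⁻¹)) (sm x 0 0 * a + sm x 0 1 * b) (sm x 1 0 * a + sm x 1 1 * b)
          = sm x * basisMat (sm (kmat t δ')) a b := by
        have c00 := congrFun (congrFun hX 0) 0
        have c01 := congrFun (congrFun hX 0) 1
        have c10 := congrFun (congrFun hX 1) 0
        have c11 := congrFun (congrFun hX 1) 1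
        simp only [Matrix.mul_apply, Fin.sum_univ_two] at c00 c01 c10 c11
        generalize sm (x * kmat t δ' * x⁻¹) = M' at c00 c01 c10 c11 ⊢
        generalize sm (kmat t δ') = M at c00 c01 c10 c11 ⊢
        ext i j
        fin_cases i <;> fin_cases j <;>
          simp [basisMat, Matrix.mul_apply, Fin.sum_univ_two]
        · linear_combination a * c00 + b * c01
        · linear_combination a * c10 + b * c11
      rw [e, Matrix.det_mul, show (sm x).det = 1 from x.2, one_mul]
    have h1 := key 1 0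
    rw [hx, det_basisMat_kmat, det_basisMat_kmat] at h1
    refine ⟨sm x 0 0, sm x 1 0 * (δ : F)⁻¹, ?_⟩
    simp [nrm] at h1 ⊢
    linear_combination -h1
  · rintro ⟨x, y, h⟩
    have := isConj_kmat (g := kmat t δ) (a := x) (b := y * δ) (δ := δ') (by
      rw [det_basisMat_kmat, mul_inv_cancel_right₀ δ.ne_zero, h])
    rwa [trace_kmat] at this

theorem sl_centralizer_card {g : SL2} (hg : NonScalar (sm g)) :
    Nat.card (Subgroup.centralizer ({g} : Set SL2)) =
      Nat.card {w : F × F // nrm (sm g).trace 1 w.1 w.2 = 1} := by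
  refine (Nat.card_congr (Equiv.ofBijective
    (fun w : {w : F × F // nrm (sm g).trace 1 w.1 w.2 = 1} =>
      (⟨⟨w.1.1 • 1 + w.1.2 • sm g, ?_⟩, ?_⟩ : Subgroup.centralizer ({g} : Set SL2))) ⟨?_, ?_⟩)).symm
  · rw [det_add_smul, show (sm g).det = 1 from g.2]; exact w.2
  · refine Subgroup.mem_centralizer_singleton_iff.mpr ?_
    apply Subtype.ext
    show (w.1.1 • 1 + w.1.2 • sm g) * sm g = sm g * (w.1.1 • 1 + w.1.2 • sm g)
    simp [add_mul, mul_add]
  · rintro ⟨⟨x, y⟩, hw⟩ ⟨⟨x', y'⟩, hw'⟩ e
    obtain ⟨rfl, rfl⟩ := smul_add_injective hg (congrArg (fun u => sm (Subtype.val u)) e)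
    rfl
  · rintro ⟨h, hh⟩
    rw [Subgroup.mem_centralizer_singleton_iff] at hh
    obtain ⟨x, y, hxy⟩ := exists_of_commute hg (show sm h * sm g = sm g * sm h by
      simp only [sm, ← Matrix.SpecialLinearGroup.coe_mul, hh])
    refine ⟨⟨(x, y), ?_⟩, Subtype.ext (Subtype.ext hxy.symm)⟩
    have := h.2
    rw [show (h : Matrix (Fin 2) (Fin 2) F) = sm h from rfl, hxy, det_add_smul, show (sm g).det = 1 from g.2] at this
    exact this

section Finite

variable [Fintype F]

/-- In characteristic two every element is a norm. -/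
theorem exists_nrm_of_char_two [CharP F 2] (t c : F) : ∃ x y, nrm t 1 x y = c := by
  obtain ⟨r, hr⟩ := FiniteField.isSquare_of_char_two (ringChar.eq F 2) c
  exact ⟨r, 0, by simp [nrm, hr, sq]⟩

theorem two_ne_zero_of_odd (hodd : Odd (Fintype.card F)) : (2 : F) ≠ 0 := by
  intro h
  obtain ⟨p, hp⟩ := CharP.exists F
  haveI := hp
  obtain ⟨n, hpr, hn⟩ := FiniteField.card F p
  have h2 : p ∣ 2 := (CharP.cast_eq_zero_iff F p 2).mp (by exact_mod_cast h)
  rw [(Nat.prime_dvd_prime_iff_eq hpr Nat.prime_two).mp h2] at hn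
  exact Nat.not_even_iff_odd.mpr hodd (hn ▸ (Nat.even_pow.mpr ⟨even_two, n.pos.ne'⟩))

theorem ringChar_ne_two_of_odd (hodd : Odd (Fintype.card F)) : ringChar F ≠ 2 := fun h =>
  two_ne_zero_of_odd hodd (by
    have := ringChar.Nat.cast_ringChar (R := F)
    rw [h] at this
    exact_mod_cast this)

open Polynomial in
theorem exists_nrm_odd (hodd : Odd (Fintype.card F)) {t : F} (ht : t ^ 2 ≠ 4) (c : F) :
    ∃ x y, nrm t 1 x y = c := by
  have h2 := two_ne_zero_of_odd hodd
  have hk : (1 - t ^ 2 / 4 : F) ≠ 0 := by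
    intro h
    apply ht
    have h4 : (4 : F) ≠ 0 := by
      rw [show (4 : F) = 2 * 2 by norm_num]; exact mul_ne_zero h2 h2
    field_simp at h
    linear_combination -h
  obtain ⟨a, b, hab⟩ := FiniteField.exists_root_sum_quadratic (f := (X : F[X]) ^ 2)
    (g := C (1 - t ^ 2 / 4) * X ^ 2 - C c) (by simp) (by
      rw [sub_eq_add_neg, ← map_neg, degree_add_C (by rw [degree_C_mul_X_pow 2 hk]; decide),
        degree_C_mul_X_pow 2 hk]; rfl) (Nat.odd_iff.mp hodd)
  refine ⟨a - t * b / 2, b, ?_⟩
  simp only [eval_pow, eval_X, eval_sub, eval_mul, eval_C] at hab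
  have h4 : (4 : F) ≠ 0 := by rw [show (4 : F) = 2 * 2 by norm_num]; exact mul_ne_zero h2 h2
  simp only [nrm]
  field_simp [h4] at hab
  field_simp
  linear_combination hab

/-- Non-scalar elements of a given trace form one class, unless odd characteristic and `t² = 4`. -/
theorem sl_isConj {g h : SL2} (hg : NonScalar (sm g)) (hh : NonScalar (sm h))
    (ht : (sm g).trace = (sm h).trace) (hn : ∀ c : F, ∃ x y, nrm (sm g).trace 1 x y = c) :
    IsConj g h := by
  obtain ⟨δ, h1⟩ := exists_isConj_kmat hg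
  obtain ⟨δ', h2⟩ := exists_isConj_kmat hh
  rw [← ht] at h2
  obtain ⟨x, y, hxy⟩ := hn ((δ' : F) / δ)
  exact h1.trans (((isConj_kmat_iff _ δ δ').mpr ⟨x, y, by
    rw [hxy, mul_div_cancel₀ _ δ.ne_zero]⟩).trans h2.symm)

theorem sl_isConj_char_two [CharP F 2] {g h : SL2} (hg : NonScalar (sm g)) (hh : NonScalar (sm h))
    (ht : (sm g).trace = (sm h).trace) : IsConj g h :=
  sl_isConj hg hh ht (exists_nrm_of_char_two _)

theorem sl_isConj_regular (hodd : Odd (Fintype.card F)) {g h : SL2} (hg : NonScalar (sm g))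
    (hh : NonScalar (sm h)) (ht : (sm g).trace = (sm h).trace) (hr : (sm g).trace ^ 2 ≠ 4) :
    IsConj g h :=
  sl_isConj hg hh ht (exists_nrm_odd hodd hr)

theorem scalarSL_mul {c : F} (hc : c ^ 2 = 1) :
    (c • (1 : Matrix (Fin 2) (Fin 2) F)).det = 1 := by
  simp [Matrix.det_fin_two, ← sq, hc]

/-- `±1`. -/
def scalarSL (c : {c : F // c ^ 2 = 1}) : SL2 := ⟨(c : F) • 1, scalarSL_mul c.2⟩

theorem isConj_scalarSL {c : {c : F // c ^ 2 = 1}} {g : SL2} (h : IsConj (scalarSL c) g) :
    g = scalarSL c := by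
  obtain ⟨x, rfl⟩ := isConj_iff.mp h
  have : x * scalarSL c = scalarSL c * x := Subtype.ext (by
    show sm x * ((c : F) • 1) = ((c : F) • 1) * sm x
    simp)
  rw [this, mul_inv_cancel_right]

theorem exists_scalarSL {g : SL2} (hg : ¬ NonScalar (sm g)) : ∃ c, g = scalarSL c := by
  have e := smul_one_of_not_nonScalar hg
  have h1 := g.2
  rw [show (g : Matrix (Fin 2) (Fin 2) F) = sm g from rfl, e] at h1
  exact ⟨⟨sm g 0 0, by simpa [Matrix.det_fin_two, sq] using h1⟩, Subtype.ext e⟩

theorem not_nonScalar_scalarSL (c : {c : F // c ^ 2 = 1}) : ¬ NonScalar (sm (scalarSL c)) :=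
  not_nonScalar_smul_one _

theorem card_sq_one_char_two [CharP F 2] : Nat.card {c : F // c ^ 2 = 1} = 1 := by
  rw [Nat.card_eq_one_iff_unique]
  refine ⟨⟨fun a b => Subtype.ext ?_⟩, ⟨⟨1, one_pow 2⟩⟩⟩
  exact frobenius_inj F 2 (a.2.trans b.2.symm)

theorem card_sq_eq (hodd : Odd (Fintype.card F)) {r : F} (hr : r ≠ 0) :
    Nat.card {c : F // c ^ 2 = r ^ 2} = 2 := by
  classical
  have h2 := two_ne_zero_of_odd hodd
  rw [Nat.card_eq_two_iff]
  refine ⟨⟨r, rfl⟩, ⟨-r, neg_sq r⟩, fun h => ?_, ?_⟩
  · have := congrArg Subtype.val h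
    exact mul_ne_zero h2 hr (by linear_combination this)
  · ext ⟨c, hc⟩
    simpa using sq_eq_sq_iff_eq_or_eq_neg.mp hc

theorem sl_card_classes_even [CharP F 2] :
    Nat.card (ConjClasses SL2) = Fintype.card F + 1 := by
  let f : {c : F // c ^ 2 = 1} ⊕ F → ConjClasses SL2 := Sum.elim
    (fun c => ConjClasses.mk (scalarSL c)) (fun t => ConjClasses.mk (kmat t 1))
  have hbij : Function.Bijective f := by
    constructor
    · rintro (c | t) (c' | t') e <;>
        simp only [f, Sum.elim_inl, Sum.elim_inr, ConjClasses.mk_eq_mk_iff_isConj] at e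
      · congr 1
        have := congrArg (fun z => sm z 0 0) (isConj_scalarSL e)
        exact Subtype.ext (by simpa [scalarSL, sm] using this.symm)
      · exact absurd (sl_nonScalar e.symm (nonScalar_kmat _ _)) (not_nonScalar_scalarSL _)
      · exact absurd (sl_nonScalar e (nonScalar_kmat _ _)) (not_nonScalar_scalarSL _)
      · have := sl_trace e
        rw [trace_kmat, trace_kmat] at this
        rw [this]
    · intro C
      obtain ⟨g, rfl⟩ := ConjClasses.mk_surjective C
      by_cases hg : NonScalar (sm g)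
      · exact ⟨Sum.inr (sm g).trace, ConjClasses.mk_eq_mk_iff_isConj.mpr
          (sl_isConj_char_two (nonScalar_kmat _ _) hg (trace_kmat _ _))⟩
      · obtain ⟨c, rfl⟩ := exists_scalarSL hg
        exact ⟨Sum.inl c, rfl⟩
  rw [← Nat.card_eq_of_bijective f hbij, Nat.card_sum, card_sq_one_char_two, Nat.card_eq_fintype_card,
    add_comm]

theorem nrm_parabolic {t : F} (hodd : Odd (Fintype.card F)) (ht : t ^ 2 = 4) (x y : F) :
    nrm t 1 x y = (x + t / 2 * y) ^ 2 := by
  have h2 := two_ne_zero_of_odd hodd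
  simp only [nrm]
  field_simp
  linear_combination (-y ^ 2) * ht

theorem sl_card_classes_odd (hodd : Odd (Fintype.card F)) :
    Nat.card (ConjClasses SL2) = Fintype.card F + 4 := by
  classical
  have h2 := two_ne_zero_of_odd hodd
  obtain ⟨ε, hε⟩ := FiniteField.exists_nonsquare (ringChar_ne_two_of_odd hodd)
  have hε0 : ε ≠ 0 := fun h => hε (h ▸ IsSquare.zero)
  let δ : Bool → Fˣ := fun b => if b then Units.mk0 ε hε0 else 1
  let f : ({c : F // c ^ 2 = 1} ⊕ {t : F // ¬ t ^ 2 = 4}) ⊕ {t : F // t ^ 2 = 4} × Bool →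
      ConjClasses SL2 := Sum.elim (Sum.elim (fun c => ConjClasses.mk (scalarSL c))
    (fun t => ConjClasses.mk (kmat t.1 1))) (fun tb => ConjClasses.mk (kmat tb.1.1 (δ tb.2)))
  have hbij : Function.Bijective f := by
    constructor
    · rintro ((c | ⟨t, ht⟩) | ⟨⟨t, ht⟩, b⟩) ((c' | ⟨t', ht'⟩) | ⟨⟨t', ht'⟩, b'⟩) e <;>
        simp only [f, Sum.elim_inl, Sum.elim_inr, ConjClasses.mk_eq_mk_iff_isConj] at e
      · congr 2
        have := congrArg (fun z => sm z 0 0) (isConj_scalarSL e)
        exact Subtype.ext (by simpa [scalarSL, sm] using this.symm)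
      · exact absurd (sl_nonScalar e.symm (nonScalar_kmat _ _)) (not_nonScalar_scalarSL _)
      · exact absurd (sl_nonScalar e.symm (nonScalar_kmat _ _)) (not_nonScalar_scalarSL _)
      · exact absurd (sl_nonScalar e (nonScalar_kmat _ _)) (not_nonScalar_scalarSL _)
      · have h := sl_trace e
        rw [trace_kmat, trace_kmat] at h
        subst h; rfl
      · have h := sl_trace e
        rw [trace_kmat, trace_kmat] at h
        exact absurd (h ▸ ht') ht
      · exact absurd (sl_nonScalar e (nonScalar_kmat _ _)) (not_nonScalar_scalarSL _)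
      · have h := sl_trace e
        rw [trace_kmat, trace_kmat] at h
        exact absurd (h ▸ ht) ht'
      · have h := sl_trace e
        rw [trace_kmat, trace_kmat] at h
        subst h
        obtain ⟨x, y, hxy⟩ := (isConj_kmat_iff _ _ _).mp e
        rw [nrm_parabolic hodd ht] at hxy
        rcases b with _ | _ <;> rcases b' with _ | _
        · rfl
        · simp only [δ, Bool.false_eq_true, if_false, if_true, Units.val_one, Units.val_mk0, one_mul] at hxy
          exact absurd ⟨_, hxy.trans (sq _)⟩ hε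
        · simp only [δ, Bool.false_eq_true, if_false, if_true, Units.val_one, Units.val_mk0] at hxy
          refine absurd ⟨(x + t / 2 * y)⁻¹, ?_⟩ hε
          have hne : (x + t / 2 * y) ≠ 0 := fun h0 => one_ne_zero (by rw [hxy, h0]; simp)
          generalize x + t / 2 * y = z at hxy hne ⊢
          field_simp
          linear_combination -hxy
        · rfl
    · intro C
      obtain ⟨g, rfl⟩ := ConjClasses.mk_surjective C
      by_cases hg : NonScalar (sm g)
      · by_cases ht : (sm g).trace ^ 2 = 4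
        · obtain ⟨u, hu⟩ := exists_isConj_kmat hg
          have half : ∀ r : F, nrm (sm g).trace 1 r 0 = r ^ 2 := fun r => by simp [nrm]
          by_cases hsq : IsSquare (u : F)
          · obtain ⟨r, hr⟩ := hsq
            refine ⟨Sum.inr (⟨_, ht⟩, false), ConjClasses.mk_eq_mk_iff_isConj.mpr
              (((isConj_kmat_iff _ _ _).mpr ⟨r, 0, ?_⟩).trans hu.symm)⟩
            rw [half, show δ false = 1 from rfl, Units.val_one, one_mul, hr, sq]
          · obtain ⟨r, hr⟩ : IsSquare ((u : F) / ε) := by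
              have h1 := (quadraticChar_neg_one_iff_not_isSquare (F := F)).mpr hsq
              have h3 := (quadraticChar_neg_one_iff_not_isSquare (F := F)).mpr hε
              refine (quadraticChar_one_iff_isSquare (div_ne_zero u.ne_zero hε0)).mp ?_
              have hmul : quadraticChar F ((u : F) / ε) * quadraticChar F ε = quadraticChar F (u : F) := by
                rw [← map_mul, div_mul_cancel₀ _ hε0]
              rw [h1, h3] at hmul
              linarith
            refine ⟨Sum.inr (⟨_, ht⟩, true), ConjClasses.mk_eq_mk_iff_isConj.mpr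
              (((isConj_kmat_iff _ _ _).mpr ⟨r, 0, ?_⟩).trans hu.symm)⟩
            rw [half, show δ true = Units.mk0 ε hε0 from rfl, Units.val_mk0, sq, ← hr, mul_div_cancel₀ _ hε0]
        · exact ⟨Sum.inl (Sum.inr ⟨_, ht⟩), ConjClasses.mk_eq_mk_iff_isConj.mpr
            (sl_isConj_regular hodd (nonScalar_kmat _ _) hg (trace_kmat _ _) (by rw [trace_kmat]; exact ht))⟩
      · obtain ⟨c, rfl⟩ := exists_scalarSL hg
        exact ⟨Sum.inl (Sum.inl c), rfl⟩
  have c1 : Nat.card {c : F // c ^ 2 = 1} = 2 := by simpa using card_sq_eq hodd one_ne_zero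
  have c4 : Nat.card {t : F // t ^ 2 = 4} = 2 := by
    have := card_sq_eq hodd h2
    rwa [show (2 : F) ^ 2 = 4 by norm_num] at this
  have hsplit : Nat.card {t : F // t ^ 2 = 4} + Nat.card {t : F // ¬ t ^ 2 = 4} = Fintype.card F := by
    rw [← Nat.card_sum, Nat.card_congr (Equiv.sumCompl (fun t : F => t ^ 2 = 4)), Nat.card_eq_fintype_card]
  rw [← Nat.card_eq_of_bijective f hbij, Nat.card_sum, Nat.card_sum, Nat.card_prod, c1, c4,
    Nat.card_eq_fintype_card (α := Bool), Fintype.card_bool]
  omega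

end Finite

end Cfsg.Agent.Char2x2
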