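import Cfsg.Agent.Char2x2.SLSplit

set_option autoImplicit false

/-! The irreducible characters of `SL₂(q)`, `q` even. -/

namespace Cfsg.Agent.Char2x2

variable {F : Type*} [Field F] [Fintype F] [DecidableEq F] [CharP F 2]

local notation "SL2" => Matrix.SpecialLinearGroup (Fin 2) F

omit [DecidableEq F] in
theorem isSquare_char_two (a : F) : IsSquare a := FiniteField.isSquare_of_char_two (ringChar.eq F 2) a

omit [DecidableEq F] in
theorem mulChar_sq_one_char_two {α : MulChar F ℂ} (h : α ^ 2 = 1) : α = 1 := by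
  ext a
  obtain ⟨r, hr⟩ := isSquare_char_two (a : F)
  rw [MulChar.one_apply a.isUnit, hr, map_mul, ← sq, ← MulChar.pow_apply' α two_ne_zero, h,
    MulChar.one_apply (isUnit_of_mul_isUnit_left (hr ▸ a.isUnit))]

theorem pairSetS_empty : pairSetS (F := F) = ∅ := by
  ext χ
  simp only [mem_pairSetS, Finset.notMem_empty, iff_false]
  rintro ⟨α, h1, h2, -⟩
  exact h2 (mulChar_sq_one_char_two h1)

theorem sl_even_data :
    (psSetS (F := F)).card = (Fintype.card F - 2) / 2 ∧ (cuspSetS (F := F)).card = Fintype.card F / 2 ∧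
      ∀ χ ∈ cuspSetS (F := F), (χ : SL2 → ℂ) 1 = (Fintype.card F : ℂ) - 1 ∧ (χ : SL2 → ℂ) (uS 1) = -1 := by
  classical
  have hsq1 : Nat.card {α : MulChar F ℂ // α ^ 2 = 1} = 1 := by
    rw [Nat.card_eq_one_iff_unique]
    exact ⟨⟨fun a b => Subtype.ext ((mulChar_sq_one_char_two a.2).trans (mulChar_sq_one_char_two b.2).symm)⟩,
      ⟨⟨1, one_pow 2⟩⟩⟩
  have hps := card_psSetS (F := F)
  rw [hsq1] at hps
  have hN := card_split (F := F)
  rw [CharCore.card_irr, sl_card_classes_even, pairSetS_empty, Finset.card_empty, add_zero] at hN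
  have hq : 2 ≤ Fintype.card F := Fintype.one_lt_card
  refine ⟨by omega, by omega, ?_⟩
  choose m hm hmu using fun (χ : Cfsg.IrrCharacter SL2) (h : χ ∈ cuspSetS) =>
    exists_degree_one_orbit (CharCore.irr_isCharacter χ) uS uS_add
      (fun x hx => eq_of_isConj (CharCore.irr_isCharacter χ) (isConj_uS hx one_ne_zero (isSquare_char_two _)))
      (mem_cuspSetS.mp h)
  have hS := degree_sq_split (F := F)
  rw [pairSetS_empty, Finset.sum_empty, add_zero, ← Finset.sum_attach (cuspSetS),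
    Finset.sum_congr rfl (fun χ _ => by rw [hm χ.1 χ.2, mul_pow]), ← Finset.sum_mul,
    LinearGroup.card_SL_two, Nat.card_eq_fintype_card] at hS
  have hq1 : (Fintype.card F : ℂ) - 1 ≠ 0 :=
    sub_ne_zero.mpr (by exact_mod_cast (by omega : Fintype.card F ≠ 1))
  have hm2 : ∑ χ ∈ (cuspSetS (F := F)).attach, ((m χ.1 χ.2 : ℂ)) ^ 2 = ((cuspSetS (F := F)).card : ℂ) := by
    have hP : ((psSetS (F := F)).card : ℂ) * 2 = (Fintype.card F : ℂ) - 2 := by
      have h2 : (psSetS (F := F)).card * 2 = Fintype.card F - 2 := by omega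
      have := congrArg (fun n : ℕ => (n : ℂ)) h2
      push_cast [Nat.cast_sub hq] at this
      exact this
    have hC : ((cuspSetS (F := F)).card : ℂ) * 2 = (Fintype.card F : ℂ) := by
      have h2 : (cuspSetS (F := F)).card * 2 = Fintype.card F := by omega
      exact_mod_cast h2
    push_cast [Nat.cast_sub (show 1 ≤ Fintype.card F ^ 2 from Nat.one_le_pow _ _ (by omega))] at hS
    apply mul_right_cancel₀ (pow_ne_zero 2 hq1)
    linear_combination (-1 : ℂ) * hS - ((Fintype.card F : ℂ) + 1) ^ 2 / 2 * hP -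
      ((Fintype.card F : ℂ) - 1) ^ 2 / 2 * hC
  have hpos : ∀ χ ∈ (cuspSetS (F := F)).attach, 1 ≤ m χ.1 χ.2 ^ 2 := fun χ _ => by
    refine Nat.one_le_iff_ne_zero.mpr (pow_ne_zero 2 fun h0 => ?_)
    exact CharCore.irr_apply_one_ne_zero χ.1 (by rw [hm χ.1 χ.2, h0]; simp)
  intro χ hχ
  have hsum : ∑ χ ∈ (cuspSetS (F := F)).attach, 1 = ∑ χ ∈ (cuspSetS (F := F)).attach, m χ.1 χ.2 ^ 2 := by
    rw [show ∑ χ ∈ (cuspSetS (F := F)).attach, m χ.1 χ.2 ^ 2 = (cuspSetS (F := F)).card by exact_mod_cast hm2]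
    simp
  have h1 := (Finset.sum_eq_sum_iff_of_le hpos).mp hsum ⟨χ, hχ⟩ (Finset.mem_attach _ _)
  have : m χ hχ = 1 := by simpa using h1.symm
  exact ⟨by rw [hm χ hχ, this]; simp, by rw [hmu χ hχ, this]; simp⟩

theorem sl_even_cases (χ : Cfsg.IrrCharacter SL2) :
    (χ = trivIrr ∧ (χ : SL2 → ℂ) 1 = 1) ∨ (χ = stIrr ∧ (χ : SL2 → ℂ) 1 = (Fintype.card F : ℂ)) ∨
      (χ ∈ psSetS ∧ (χ : SL2 → ℂ) 1 = (Fintype.card F : ℂ) + 1 ∧ (χ : SL2 → ℂ) (uS 1) = 1) ∨
      (χ ∈ cuspSetS ∧ (χ : SL2 → ℂ) 1 = (Fintype.card F : ℂ) - 1 ∧ (χ : SL2 → ℂ) (uS 1) = -1) := by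
  rcases cases_mem χ with h | h | h | h | h
  · exact Or.inl ⟨h, by simp [h, trivIrr]⟩
  · exact Or.inr (Or.inl ⟨h, by simp [h, stIrr, stS_one]⟩)
  · obtain ⟨α, -, e⟩ := mem_psSetS.mp h
    exact Or.inr (Or.inr (Or.inl ⟨h, by rw [e, psS_one_apply], by rw [e, psS_uS α one_ne_zero]⟩))
  · simp [pairSetS_empty] at h
  · exact Or.inr (Or.inr (Or.inr ⟨h, sl_even_data.2.2 χ h⟩))

theorem sl_even_stS {χ : Cfsg.IrrCharacter SL2} (h : (χ : SL2 → ℂ) 1 = (Fintype.card F : ℂ)) :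
    (χ : SL2 → ℂ) = stS := by
  have hq : 1 < Fintype.card F := Fintype.one_lt_card
  rcases sl_even_cases χ with ⟨-, e⟩ | ⟨rfl, -⟩ | ⟨-, e, -⟩ | ⟨-, e, -⟩
  · exact absurd (show ((1 : ℕ) : ℂ) = (Fintype.card F : ℂ) by rw [Nat.cast_one, ← e, h])
      (fun h => hq.ne (Nat.cast_injective h))
  · rfl
  · rw [h] at e; exact absurd e (by simp)
  · rw [h] at e; exact absurd e.symm (by simp [sub_eq_self])

theorem sl_even_counts (hq : 4 ≤ Fintype.card F) :
    Nat.card {χ : Cfsg.IrrCharacter SL2 // (χ : SL2 → ℂ) 1 = 1} = 1 ∧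
    Nat.card {χ : Cfsg.IrrCharacter SL2 // (χ : SL2 → ℂ) 1 = (Fintype.card F : ℂ)} = 1 ∧
    Nat.card {χ : Cfsg.IrrCharacter SL2 // (χ : SL2 → ℂ) 1 = (Fintype.card F : ℂ) + 1} = (Fintype.card F - 2) / 2 ∧
    Nat.card {χ : Cfsg.IrrCharacter SL2 // (χ : SL2 → ℂ) 1 = (Fintype.card F : ℂ) - 1} = Fintype.card F / 2 := by
  classical
  have e0 : (Fintype.card F : ℂ) ≠ 0 := Nat.cast_ne_zero.mpr (by omega)
  have e1 : (Fintype.card F : ℂ) ≠ 1 := Nat.cast_ne_one.mpr (by omega)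
  have e2 : (Fintype.card F : ℂ) ≠ 2 := fun h => by
    have : Fintype.card F = 2 := by exact_mod_cast h
    omega
  have dps : ∀ χ ∈ psSetS (F := F), (χ : SL2 → ℂ) 1 = (Fintype.card F : ℂ) + 1 := fun χ h => by
    obtain ⟨α, -, e⟩ := mem_psSetS.mp h
    rw [e, psS_one_apply]
  have dcu : ∀ χ ∈ cuspSetS (F := F), (χ : SL2 → ℂ) 1 = (Fintype.card F : ℂ) - 1 :=
    fun χ h => (sl_even_data.2.2 χ h).1
  refine ⟨?_, ?_, ?_, ?_⟩
  · rw [card_irr_degS {trivIrr}, Finset.card_singleton]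
    intro χ
    rw [Finset.mem_singleton]
    refine ⟨fun h => ?_, fun h => by simp [h, trivIrr]⟩
    rcases sl_even_cases χ with ⟨e, -⟩ | ⟨-, e⟩ | ⟨-, e, -⟩ | ⟨-, e, -⟩
    · exact e
    · exact absurd (h.symm.trans e) e1.symm
    · exact absurd (h.symm.trans e) (fun h => e0 (by linear_combination -h))
    · exact absurd (h.symm.trans e) (fun h => e2 (by linear_combination -h))
  · rw [card_irr_degS {stIrr}, Finset.card_singleton]
    intro χ
    rw [Finset.mem_singleton]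
    refine ⟨fun h => Subtype.ext (sl_even_stS h), fun h => by simp [h, stIrr, stS_one]⟩
  · rw [card_irr_degS psSetS, sl_even_data.1]
    intro χ
    refine ⟨fun h => ?_, dps χ⟩
    rcases sl_even_cases χ with ⟨-, e⟩ | ⟨-, e⟩ | ⟨e, -⟩ | ⟨-, e, -⟩
    · exact absurd (h.symm.trans e) (fun h => e0 (by linear_combination h))
    · exact absurd (h.symm.trans e) (fun h => one_ne_zero (α := ℂ) (by linear_combination h))
    · exact e
    · exact absurd (h.symm.trans e) (fun h => two_ne_zero (α := ℂ) (by linear_combination h))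
  · rw [card_irr_degS cuspSetS, sl_even_data.2.1]
    intro χ
    refine ⟨fun h => ?_, dcu χ⟩
    rcases sl_even_cases χ with ⟨-, e⟩ | ⟨-, e⟩ | ⟨-, e, -⟩ | ⟨e, -⟩
    · exact absurd (h.symm.trans e) (fun h => e2 (by linear_combination h))
    · exact absurd (h.symm.trans e) (fun h => one_ne_zero (α := ℂ) (by linear_combination -h))
    · exact absurd (h.symm.trans e) (fun h => two_ne_zero (α := ℂ) (by linear_combination -h))
    · exact e

end Cfsg.Agent.Char2x2
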