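import Cfsg.Agent.Char2x2.SLOdd

set_option autoImplicit false

/-! Degrees and special values of the characters of `SL₂(q)`, `q` odd. -/

namespace Cfsg.Agent.Char2x2

open Matrix
open scoped ComplexConjugate

variable {F : Type*} [Field F] [Fintype F] [DecidableEq F]

local notation "SL2" => Matrix.SpecialLinearGroup (Fin 2) F

/-- The cuspidal characters of degree `(q - 1) / 2`. -/
noncomputable def halfSetS : Finset (Cfsg.IrrCharacter SL2) :=
  open Classical in (cuspSetS (F := F)).filter fun χ => 2 * (χ : SL2 → ℂ) 1 = (Fintype.card F : ℂ) - 1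

theorem mem_halfSetS {χ : Cfsg.IrrCharacter SL2} :
    χ ∈ halfSetS ↔ χ ∈ cuspSetS ∧ 2 * (χ : SL2 → ℂ) 1 = (Fintype.card F : ℂ) - 1 := by simp [halfSetS]

theorem half_data (hodd : Odd (Fintype.card F)) {ε : F} (hε : ¬ IsSquare ε) :
    (halfSetS (F := F)).card = 2 ∧
    (∀ χ ∈ halfSetS (F := F), (χ : SL2 → ℂ) (uS 1) + (χ : SL2 → ℂ) (uS ε) = -1 ∧
        ((χ : SL2 → ℂ) (uS 1) - (χ : SL2 → ℂ) (uS ε)) ^ 2 = etaC (-1 : F) * (Fintype.card F : ℂ)) ∧
    (∀ χ ∈ cuspSetS, χ ∉ halfSetS (F := F) → (χ : SL2 → ℂ) 1 = (Fintype.card F : ℂ) - 1 ∧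
        (χ : SL2 → ℂ) (uS 1) = -1) := by
  classical
  obtain ⟨-, -, half, hsub, hcard, h1, h2⟩ := cusp_data hodd hε
  have he : halfSetS (F := F) = half := by
    ext χ
    rw [mem_halfSetS]
    refine ⟨fun ⟨hc, hd⟩ => ?_, fun h => ⟨hsub h, (h1 χ h).1⟩⟩
    by_contra hn
    rw [(h2 χ hc hn).1] at hd
    exact (Fintype.one_lt_card (α := F)).ne' (by exact_mod_cast (show (Fintype.card F : ℂ) = 1 by linear_combination hd))
  rw [he]
  exact ⟨hcard, fun χ h => (h1 χ h).2, fun χ hc hn => ⟨(h2 χ hc hn).1, (h2 χ hc hn).2.1⟩⟩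

theorem card_fullSetS [DecidableEq (Cfsg.IrrCharacter SL2)] (hodd : Odd (Fintype.card F)) {ε : F}
    (hε : ¬ IsSquare ε) : (cuspSetS \ halfSetS (F := F)).card = (Fintype.card F - 1) / 2 := by
  classical
  rw [Finset.card_sdiff_of_subset (fun χ h => (mem_halfSetS.mp h).1), (cusp_data hodd hε).2.1,
    (half_data hodd hε).1]
  have := Fintype.one_lt_card (α := F)
  omega

omit [DecidableEq F] in
theorem exists_not_isSquare (hodd : Odd (Fintype.card F)) : ∃ ε : F, ¬ IsSquare ε :=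
  FiniteField.exists_nonsquare (ringChar_ne_two_of_odd hodd)

omit [DecidableEq F] in
theorem half_casts (hodd : Odd (Fintype.card F)) :
    2 * (((Fintype.card F + 1) / 2 : ℕ) : ℂ) = (Fintype.card F : ℂ) + 1 ∧
      2 * (((Fintype.card F - 1) / 2 : ℕ) : ℂ) = (Fintype.card F : ℂ) - 1 ∧
      ((Fintype.card F - 1 : ℕ) : ℂ) = (Fintype.card F : ℂ) - 1 := by
  obtain ⟨j, hj⟩ := hodd
  rw [hj, show (2 * j + 1 + 1) / 2 = j + 1 by omega, show (2 * j + 1 - 1) / 2 = j by omega,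
    show 2 * j + 1 - 1 = 2 * j by omega]
  push_cast
  exact ⟨by ring, by ring, by ring⟩

theorem sl_odd_cases (hodd : Odd (Fintype.card F)) (χ : Cfsg.IrrCharacter SL2) :
    (χ = trivIrr ∧ (χ : SL2 → ℂ) 1 = ((1 : ℕ) : ℂ)) ∨
    (χ = stIrr ∧ (χ : SL2 → ℂ) 1 = ((Fintype.card F : ℕ) : ℂ)) ∨
    (χ ∈ psSetS ∧ (χ : SL2 → ℂ) 1 = ((Fintype.card F + 1 : ℕ) : ℂ)) ∨
    (χ ∈ pairSetS ∧ (χ : SL2 → ℂ) 1 = (((Fintype.card F + 1) / 2 : ℕ) : ℂ)) ∨
    (χ ∈ halfSetS ∧ (χ : SL2 → ℂ) 1 = (((Fintype.card F - 1) / 2 : ℕ) : ℂ)) ∨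
    ((χ ∈ cuspSetS ∧ χ ∉ halfSetS) ∧ (χ : SL2 → ℂ) 1 = ((Fintype.card F - 1 : ℕ) : ℂ)) := by
  classical
  obtain ⟨ε, hε⟩ := exists_not_isSquare hodd
  obtain ⟨c1, c2, c3⟩ := half_casts hodd
  rcases cases_mem χ with h | h | h | h | h
  · exact Or.inl ⟨h, by simp [h, trivIrr]⟩
  · exact Or.inr (Or.inl ⟨h, by simp [h, stIrr, stS_one]⟩)
  · obtain ⟨α, -, e⟩ := mem_psSetS.mp h
    exact Or.inr (Or.inr (Or.inl ⟨h, by rw [e, psS_one_apply]; push_cast; rfl⟩))
  · exact Or.inr (Or.inr (Or.inr (Or.inl ⟨h,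
      mul_left_cancel₀ two_ne_zero ((pair_data hε χ h).1.trans c1.symm)⟩)))
  · by_cases hh : χ ∈ halfSetS
    · exact Or.inr (Or.inr (Or.inr (Or.inr (Or.inl ⟨hh,
        mul_left_cancel₀ two_ne_zero ((mem_halfSetS.mp hh).2.trans c2.symm)⟩))))
    · exact Or.inr (Or.inr (Or.inr (Or.inr (Or.inr ⟨⟨h, hh⟩, ((half_data hodd hε).2.2 χ h hh).1.trans c3.symm⟩))))

/-- The conjugate of a character under `diag (ε, 1)`. -/
noncomputable def sigIrr (ε : Fˣ) (χ : Cfsg.IrrCharacter SL2) : Cfsg.IrrCharacter SL2 :=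
  ⟨fun g => (χ : SL2 → ℂ) (sigS ε g),
    CharCore.isIrrCharacter_comp_surjective χ.2 (sigS ε) (sigS_surjective ε)⟩

theorem sigIrr_apply (ε : Fˣ) (χ : Cfsg.IrrCharacter SL2) (g : SL2) :
    (sigIrr ε χ : SL2 → ℂ) g = (χ : SL2 → ℂ) (sigS ε g) := rfl

theorem sigIrr_uS_one (ε : Fˣ) (χ : Cfsg.IrrCharacter SL2) :
    (sigIrr ε χ : SL2 → ℂ) (uS 1) = (χ : SL2 → ℂ) (uS (ε : F)) := by
  rw [sigIrr_apply, sigS_uS, mul_one]

theorem sigIrr_mem_pair {ε : F} (hε : ¬ IsSquare ε) (e : Fˣ) {χ : Cfsg.IrrCharacter SL2} (h : χ ∈ pairSetS) :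
    sigIrr e χ ∈ pairSetS := by
  rw [mem_pairSetS_iff hε] at h ⊢
  convert h using 1
  unfold Cfsg.classInner
  congr 1
  have hb : Function.Bijective (sigS e) :=
    ⟨Finite.injective_iff_surjective.mpr (sigS_surjective e), sigS_surjective e⟩
  refine Fintype.sum_bijective (sigS e) hb _ _ fun g => ?_
  rw [psS_sigS, sigIrr_apply]

theorem sigIrr_mem_half (e : Fˣ) {χ : Cfsg.IrrCharacter SL2} (h : χ ∈ halfSetS) : sigIrr e χ ∈ halfSetS := by
  rw [mem_halfSetS, mem_cuspSetS] at h ⊢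
  refine ⟨?_, by rw [sigIrr_apply, map_one]; exact h.2⟩
  unfold IsCuspS at h ⊢
  simp only [sigIrr_apply, sigS_uS]
  rw [← h.1]
  exact Equiv.sum_comp (Equiv.mulLeft₀ (e : F) e.ne_zero) (fun b => (χ : SL2 → ℂ) (uS b))

theorem sigIrr_ne {ε : F} (hε : ¬ IsSquare ε) {χ : Cfsg.IrrCharacter SL2}
    (h : ((χ : SL2 → ℂ) (uS 1) - (χ : SL2 → ℂ) (uS ε)) ^ 2 = etaC (-1 : F) * (Fintype.card F : ℂ)) :
    sigIrr (Units.mk0 ε (ne_zero_of_not_isSquare hε)) χ ≠ χ := by
  intro he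
  have h1 := congrArg (fun z : Cfsg.IrrCharacter SL2 => (z : SL2 → ℂ) (uS 1)) he
  simp only [sigIrr_uS_one, Units.val_mk0] at h1
  rw [h1, sub_self, zero_pow two_ne_zero] at h
  rcases mul_eq_zero.mp h.symm with h | h
  · have := etaC_neg_one_sq (F := F)
    rw [h] at this; norm_num at this
  · exact Nat.cast_ne_zero.mpr Fintype.card_ne_zero h

theorem eq_sigIrr_pair {ε : F} (hε : ¬ IsSquare ε) {χ₁ χ₂ : Cfsg.IrrCharacter SL2} (h1 : χ₁ ∈ pairSetS)
    (h2 : χ₂ ∈ pairSetS) (hne : χ₁ ≠ χ₂) : χ₂ = sigIrr (Units.mk0 ε (ne_zero_of_not_isSquare hε)) χ₁ := by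
  classical
  by_contra hc
  have hs : ({χ₁, χ₂, sigIrr (Units.mk0 ε (ne_zero_of_not_isSquare hε)) χ₁} : Finset _) ⊆ pairSetS (F := F) := by
    intro z hz
    simp only [Finset.mem_insert, Finset.mem_singleton] at hz
    rcases hz with rfl | rfl | rfl
    exacts [h1, h2, sigIrr_mem_pair hε _ h1]
  have := Finset.card_le_card hs
  rw [card_pairSetS hε, Finset.card_insert_of_notMem (by
      simp only [Finset.mem_insert, Finset.mem_singleton, not_or]
      exact ⟨hne, (sigIrr_ne hε (pair_data hε χ₁ h1).2.2).symm⟩),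
    Finset.card_pair hc] at this
  omega

theorem eq_sigIrr_half (hodd : Odd (Fintype.card F)) {ε : F} (hε : ¬ IsSquare ε)
    {χ₁ χ₂ : Cfsg.IrrCharacter SL2} (h1 : χ₁ ∈ halfSetS)
    (h2 : χ₂ ∈ halfSetS) (hne : χ₁ ≠ χ₂) : χ₂ = sigIrr (Units.mk0 ε (ne_zero_of_not_isSquare hε)) χ₁ := by
  classical
  by_contra hc
  have hs : ({χ₁, χ₂, sigIrr (Units.mk0 ε (ne_zero_of_not_isSquare hε)) χ₁} : Finset _) ⊆ halfSetS (F := F) := by
    intro z hz
    simp only [Finset.mem_insert, Finset.mem_singleton] at hz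
    rcases hz with rfl | rfl | rfl
    exacts [h1, h2, sigIrr_mem_half _ h1]
  have := Finset.card_le_card hs
  rw [(half_data hodd hε).1, Finset.card_insert_of_notMem (by
      simp only [Finset.mem_insert, Finset.mem_singleton, not_or]
      exact ⟨hne, (sigIrr_ne hε ((half_data hodd hε).2.1 χ₁ h1).2).symm⟩),
    Finset.card_pair hc] at this
  omega

theorem trace_sq_ne_of_no_eigvec (hodd : Odd (Fintype.card F)) {g : SL2}
    (h : ∀ (c : F) (v : Fin 2 → F), v ≠ 0 → (sm g).mulVec v ≠ c • v) : (sm g).trace ^ 2 ≠ 4 := by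
  intro ht
  apply nrm_ne_zero_of_no_eigvec h (x := -((sm g).trace / 2)) (y := 1) (Or.inr one_ne_zero)
  rw [show (sm g).det = 1 from g.2, nrm_parabolic hodd ht]
  ring

theorem pair_elliptic (hodd : Odd (Fintype.card F)) {χ : Cfsg.IrrCharacter SL2} (hχ : χ ∈ pairSetS) {g : SL2}
    (h : ∀ (c : F) (v : Fin 2 → F), v ≠ 0 → (sm g).mulVec v ≠ c • v) : (χ : SL2 → ℂ) g = 0 := by
  classical
  obtain ⟨ε, hε⟩ := exists_not_isSquare hodd
  set e := Units.mk0 ε (ne_zero_of_not_isSquare hε)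
  have hne := sigIrr_ne hε (pair_data hε χ hχ).2.2
  have hset : pairSetS (F := F) = {χ, sigIrr e χ} := by
    refine (Finset.eq_of_subset_of_card_le ?_ ?_).symm
    · intro z hz
      simp only [Finset.mem_insert, Finset.mem_singleton] at hz
      rcases hz with rfl | rfl
      exacts [hχ, sigIrr_mem_pair hε _ hχ]
    · rw [card_pairSetS hε, Finset.card_pair hne.symm]
  have hs := sum_pairSetS hε g
  rw [hset, Finset.sum_pair hne.symm, psS_elliptic _ h, sigIrr_apply] at hs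
  have hns := nonScalar_of_no_eigvec h
  have hns' : NonScalar (sm (sigS e g)) := by
    rw [sm_sigS]
    exact Or.inr (Or.inl (by simpa using ne_zero_of_no_eigvec h))
  have ht : (sm g).trace = (sm (sigS e g)).trace := by
    rw [sm_sigS]; simp [Matrix.trace_fin_two]
  rw [← eq_of_isConj (CharCore.irr_isCharacter χ)
    (sl_isConj_regular hodd hns hns' ht (trace_sq_ne_of_no_eigvec hodd h))] at hs
  linear_combination (1 / 2 : ℂ) * hs

theorem linear_elliptic_three (h3 : Fintype.card F = 3) (f : SL2 →* ℂˣ) {g : SL2}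
    (h : ∀ (c : F) (v : Fin 2 → F), v ≠ 0 → (sm g).mulVec v ≠ c • v) : f g = 1 := by
  classical
  have hodd : Odd (Fintype.card F) := h3 ▸ ⟨1, rfl⟩
  have h30 : (3 : F) = 0 := by
    have := FiniteField.cast_card_eq_zero F
    rw [h3] at this
    exact_mod_cast this
  have htr : (sm g).trace = 0 := by
    by_contra ht
    refine trace_sq_ne_of_no_eigvec hodd h ?_
    have := FiniteField.pow_card_sub_one_eq_one _ ht
    rw [h3] at this
    linear_combination this - h30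
  let w : SL2 := uS 1 * (wS (some 0) * uS (-(-1)) * (wS (some 0))⁻¹) * uS 1
  have hw : sm w = !![0, 1; -1, 0] := by
    show sm (uS 1) * sm (wS (some 0) * uS (-(-1)) * (wS (some (0 : F)))⁻¹) * sm (uS 1) = _
    rw [sm_lower, sm_uS]
    ext i j
    fin_cases i <;> fin_cases j <;> simp [Matrix.mul_apply, Fin.sum_univ_two]
  have hc : IsConj g w := sl_isConj_regular hodd (nonScalar_of_no_eigvec h)
    (Or.inl (by simp [hw])) (by rw [htr, hw]; simp [Matrix.trace_fin_two])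
    (trace_sq_ne_of_no_eigvec hodd h)
  obtain ⟨x, hx⟩ := isConj_iff.mp hc
  have hfg : f g = f w := by rw [← hx, map_mul, map_mul, map_inv, mul_comm (f x), mul_inv_cancel_right]
  rw [hfg]
  simp only [w, map_mul, map_inv, neg_neg]
  rw [mul_comm (f (wS (some (0 : F)))) (f (uS 1)), mul_inv_cancel_right, ← map_mul, ← map_mul, ← uS_add, ← uS_add,
    show (1 : F) + 1 + 1 = 0 by linear_combination h30, uS_zero, map_one]

theorem full_cusp_elliptic_three (hodd : Odd (Fintype.card F)) (h3 : Fintype.card F = 3)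
    {χ : Cfsg.IrrCharacter SL2} (hχ : χ ∈ cuspSetS) (hχ' : χ ∉ halfSetS) {g : SL2}
    (h : ∀ (c : F) (v : Fin 2 → F), v ≠ 0 → (sm g).mulVec v ≠ c • v) : (χ : SL2 → ℂ) g = 0 := by
  classical
  obtain ⟨ε, hε⟩ := exists_not_isSquare hodd
  have hg1 : g ≠ 1 := fun e => h 1 ![1, 0] (by simp) (by simp [e, sm])
  have hs := CharCore.sum_degree_mul_apply (G := SL2) g
  rw [if_neg hg1, sum_split, Finset.sum_eq_zero (s := psSetS) (fun z hz => by
    obtain ⟨α, -, e⟩ := mem_psSetS.mp hz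
    rw [e, psS_elliptic α h, mul_zero]), Finset.sum_eq_zero (s := pairSetS) (fun z hz => by
    rw [pair_elliptic hodd hz h, mul_zero])] at hs
  have hsub : halfSetS (F := F) ⊆ cuspSetS := fun z hz => (mem_halfSetS.mp hz).1
  have hfull : cuspSetS \ halfSetS (F := F) = {χ} := by
    refine (Finset.eq_of_subset_of_card_le (Finset.singleton_subset_iff.mpr (Finset.mem_sdiff.mpr ⟨hχ, hχ'⟩)) ?_).symm
    rw [card_fullSetS hodd hε, h3, Finset.card_singleton]
  rw [← Finset.sum_sdiff hsub, hfull, Finset.sum_singleton, Finset.sum_congr (s₁ := halfSetS) rfl (fun z hz => by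
    have hz1 : (z : SL2 → ℂ) 1 = 1 := by
      have := (mem_halfSetS.mp hz).2
      rw [h3] at this
      push_cast at this
      linear_combination (1 / 2 : ℂ) * this
    obtain ⟨f, hf⟩ := CharCore.IsCharacter.exists_hom_of_degree_one (CharCore.irr_isCharacter z) hz1
    rw [show (z : SL2 → ℂ) g = 1 by rw [hf]; simp [linear_elliptic_three h3 f h], hz1, mul_one]),
    Finset.sum_const, (half_data hodd hε).1, ((half_data hodd hε).2.2 χ hχ hχ').1,
    show ((trivIrr : Cfsg.IrrCharacter SL2) : SL2 → ℂ) = trivS from rfl,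
    show ((stIrr : Cfsg.IrrCharacter SL2) : SL2 → ℂ) = stS from rfl, stS_one, (stS_values g).2.1 h, h3] at hs
  norm_num [trivS] at hs
  linear_combination hs

end Cfsg.Agent.Char2x2
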