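import Mathlib

set_option autoImplicit false

/-! `2 × 2` matrices: cyclic vectors, the determinant form of the commutant, companion forms. -/

namespace Cfsg.Agent.Char2x2

open Matrix

variable {F : Type*} [Field F]

/-- A matrix which is not scalar. -/
def NonScalar (M : Matrix (Fin 2) (Fin 2) F) : Prop :=
  M 0 1 ≠ 0 ∨ M 1 0 ≠ 0 ∨ M 0 0 ≠ M 1 1

/-- `det (x + y C)` for `C` of trace `t` and determinant `d`. -/
def nrm (t d x y : F) : F := x ^ 2 + t * x * y + d * y ^ 2

theorem mat_eq (M : Matrix (Fin 2) (Fin 2) F) : M = !![M 0 0, M 0 1; M 1 0, M 1 1] := Matrix.eta_fin_two M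

theorem mul_self_eq (M : Matrix (Fin 2) (Fin 2) F) : M * M = M.trace • M - M.det • 1 := by
  ext i j
  fin_cases i <;> fin_cases j <;>
    simp [Matrix.mul_apply, Fin.sum_univ_two, Matrix.trace_fin_two, Matrix.det_fin_two] <;> ring

theorem det_add_smul (M : Matrix (Fin 2) (Fin 2) F) (x y : F) :
    (x • (1 : Matrix (Fin 2) (Fin 2) F) + y • M).det = nrm M.trace M.det x y := by
  simp [nrm, Matrix.det_fin_two, Matrix.trace_fin_two]
  ring

/-- The matrix with columns `v` and `M v`. -/
def basisMat (M : Matrix (Fin 2) (Fin 2) F) (a b : F) : Matrix (Fin 2) (Fin 2) F :=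
  !![a, M 0 0 * a + M 0 1 * b; b, M 1 0 * a + M 1 1 * b]

/-- The companion matrix of `X² - t X + d`. -/
def comp (t d : F) : Matrix (Fin 2) (Fin 2) F := !![0, -d; 1, t]

theorem mul_basisMat (M : Matrix (Fin 2) (Fin 2) F) (a b : F) :
    M * basisMat M a b = basisMat M a b * comp M.trace M.det := by
  ext i j
  fin_cases i <;> fin_cases j <;>
    simp [basisMat, comp, Matrix.mul_apply, Fin.sum_univ_two, Matrix.trace_fin_two, Matrix.det_fin_two] <;> ring

theorem det_basisMat (M : Matrix (Fin 2) (Fin 2) F) (a b : F) :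
    (basisMat M a b).det = M 1 0 * a ^ 2 + (M 1 1 - M 0 0) * a * b - M 0 1 * b ^ 2 := by
  simp [basisMat, Matrix.det_fin_two]
  ring

theorem exists_det_basisMat_ne {M : Matrix (Fin 2) (Fin 2) F} (h : NonScalar M) :
    ∃ a b : F, (basisMat M a b).det ≠ 0 := by
  by_contra hc
  push Not at hc
  simp only [det_basisMat] at hc
  have h1 : M 1 0 = 0 := by have := hc 1 0; simpa using this
  have h2 : M 0 1 = 0 := by have := hc 0 1; simpa using this
  have h3 : M 1 1 - M 0 0 = 0 := by have := hc 1 1; simpa [h1, h2] using this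
  rcases h with h | h | h
  exacts [h h2, h h1, h (sub_eq_zero.mp h3).symm]

theorem nonScalar_of_ne_smul {M : Matrix (Fin 2) (Fin 2) F} (h : M ≠ M 0 0 • 1) : NonScalar M := by
  by_contra hc
  simp only [NonScalar, not_or, not_not] at hc
  obtain ⟨h1, h2, h3⟩ := hc
  apply h
  ext i j
  fin_cases i <;> fin_cases j <;> simp [h1, h2, h3]

theorem not_nonScalar_smul_one (c : F) : ¬ NonScalar (c • (1 : Matrix (Fin 2) (Fin 2) F)) := by
  simp [NonScalar]

theorem smul_one_of_not_nonScalar {M : Matrix (Fin 2) (Fin 2) F} (h : ¬ NonScalar M) :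
    M = M 0 0 • 1 := by
  by_contra hc
  exact h (nonScalar_of_ne_smul hc)

theorem nonScalar_comp (t d : F) : NonScalar (comp t d) := Or.inr (Or.inl (by simp [comp]))

theorem nonScalar_of_upper {M : Matrix (Fin 2) (Fin 2) F} (h : M 0 1 ≠ 0) : NonScalar M := Or.inl h

theorem trace_comp (t d : F) : (comp t d).trace = t := by simp [comp, Matrix.trace_fin_two]

theorem det_comp (t d : F) : (comp t d).det = d := by simp [comp, Matrix.det_fin_two]

/-- The commutant of a non-scalar matrix consists of its polynomials. -/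
theorem exists_of_commute {M H : Matrix (Fin 2) (Fin 2) F} (h : NonScalar M) (hc : H * M = M * H) :
    ∃ x y : F, H = x • 1 + y • M := by
  obtain ⟨a, b, hd⟩ := exists_det_basisMat_ne h
  set P := basisMat M a b with hP
  have hu : IsUnit P.det := isUnit_iff_ne_zero.mpr hd
  set w := P⁻¹.mulVec (H.mulVec ![a, b]) with hw
  refine ⟨w 0, w 1, ?_⟩
  have hPw : P.mulVec w = H.mulVec ![a, b] := by
    rw [hw, Matrix.mulVec_mulVec, Matrix.mul_nonsing_inv _ hu, Matrix.one_mulVec]
  set Z := H - (w 0 • (1 : Matrix (Fin 2) (Fin 2) F) + w 1 • M) with hZ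
  have hv : Z.mulVec ![a, b] = 0 := by
    rw [hZ, Matrix.sub_mulVec, ← hPw, sub_eq_zero]
    ext i
    fin_cases i <;>
      simp [hP, basisMat, Matrix.mulVec, dotProduct, Fin.sum_univ_two] <;> ring
  have hZM : Z * M = M * Z := by
    rw [hZ]
    simp only [sub_mul, mul_sub, add_mul, mul_add, Matrix.smul_mul, Matrix.mul_smul, one_mul, mul_one, hc]
  have hv2 : Z.mulVec (M.mulVec ![a, b]) = 0 := by
    rw [Matrix.mulVec_mulVec, hZM, ← Matrix.mulVec_mulVec, hv, Matrix.mulVec_zero]
  have hZP : Z * P = 0 := by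
    ext i j
    have e1 := congrFun hv i
    have e2 := congrFun hv2 i
    fin_cases j
    · simpa [hP, basisMat, Matrix.mul_apply, Matrix.mulVec, dotProduct, Fin.sum_univ_two] using e1
    · simpa [hP, basisMat, Matrix.mul_apply, Matrix.mulVec, dotProduct, Fin.sum_univ_two] using e2
  have hZ0 : Z = 0 := by
    calc Z = Z * P * P⁻¹ := by rw [Matrix.mul_nonsing_inv_cancel_right _ _ hu]
      _ = 0 := by rw [hZP, zero_mul]
  exact sub_eq_zero.mp hZ0

theorem smul_add_injective {M : Matrix (Fin 2) (Fin 2) F} (h : NonScalar M) {x y x' y' : F}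
    (e : x • (1 : Matrix (Fin 2) (Fin 2) F) + y • M = x' • 1 + y' • M) : x = x' ∧ y = y' := by
  have hy : y = y' := by
    by_contra hne
    have hne' : y - y' ≠ 0 := sub_ne_zero.mpr hne
    have eq1 : (y - y') • M = (x' - x) • 1 := by
      rw [sub_smul, sub_smul, sub_eq_sub_iff_add_eq_add, add_comm (y • M), e, add_comm]
    have : M = ((x' - x) / (y - y')) • 1 := by
      rw [div_eq_inv_mul, ← smul_smul, ← eq1, smul_smul, inv_mul_cancel₀ hne', one_smul]
    exact not_nonScalar_smul_one _ (this ▸ h)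
  subst hy
  refine ⟨?_, rfl⟩
  have := congrFun (congrFun e 0) 0
  simpa using this

/-- Nilpotent `2 × 2` matrices square to zero. -/
theorem sq_eq_zero_iff {M : Matrix (Fin 2) (Fin 2) F} (k : ℕ) (h : M ^ k = 0) :
    M.trace = 0 ∧ M.det = 0 := by
  have hn : IsNilpotent M := ⟨k, h⟩
  refine ⟨(Matrix.isNilpotent_trace_of_isNilpotent hn).eq_zero, ?_⟩
  have := congrArg Matrix.det h
  rw [Matrix.det_pow, Matrix.det_zero] at this
  exact eq_zero_of_pow_eq_zero this

/-- Elements of order `p` in characteristic `p`. -/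
theorem pow_char_eq_one_iff (p : ℕ) [Fact p.Prime] [CharP F p] (M : Matrix (Fin 2) (Fin 2) F) :
    (M ^ p = 1 ∧ M ≠ 1) ↔ (NonScalar M ∧ M.trace = 2 ∧ M.det = 1) := by
  have hp : p.Prime := Fact.out
  haveI : CharP (Matrix (Fin 2) (Fin 2) F) p :=
    charP_of_injective_algebraMap (algebraMap F (Matrix (Fin 2) (Fin 2) F)).injective p
  have hfrob : (M - 1) ^ p = M ^ p - 1 := by
    rw [sub_pow_char_of_commute p (Commute.one_right M), one_pow]
  constructor
  · rintro ⟨h1, h2⟩
    obtain ⟨ht, hd⟩ := sq_eq_zero_iff p (show (M - 1) ^ p = 0 by rw [hfrob, h1, sub_self])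
    simp only [Matrix.trace_fin_two, Matrix.det_fin_two, Matrix.sub_apply, Matrix.one_apply_eq,
      Matrix.one_apply_ne (show (0 : Fin 2) ≠ 1 by decide), Matrix.one_apply_ne (show (1 : Fin 2) ≠ 0 by decide),
      sub_zero] at ht hd
    refine ⟨?_, by rw [Matrix.trace_fin_two]; linear_combination ht,
      by rw [Matrix.det_fin_two]; linear_combination hd + ht⟩
    by_contra hns
    have hM := smul_one_of_not_nonScalar hns
    apply h2
    have e : M 1 1 = M 0 0 := by conv_lhs => rw [hM]; simp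
    rw [e] at ht
    have e2 : M 0 1 = 0 ∧ M 1 0 = 0 := by constructor <;> (conv_lhs => rw [hM]) <;> simp
    rw [e, e2.1, e2.2] at hd
    have : M 0 0 = 1 := by
      have : (M 0 0 - 1) ^ 2 = 0 := by linear_combination hd
      exact sub_eq_zero.mp (eq_zero_of_pow_eq_zero this)
    rw [hM, this, one_smul]
  · rintro ⟨hns, ht, hd⟩
    refine ⟨?_, fun h => not_nonScalar_smul_one (1 : F) (by rw [one_smul, ← h]; exact hns)⟩
    have h2 : (M - 1) ^ 2 = 0 := by
      rw [sq, sub_mul, mul_sub, mul_one, one_mul, mul_self_eq, ht, hd, two_smul, one_smul]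
      abel
    have : (M - 1) ^ p = 0 := pow_eq_zero_of_le hp.two_le h2
    rw [hfrob, sub_eq_zero] at this
    exact this

/-- No eigenvector means that the norm form is anisotropic. -/
theorem nrm_ne_zero_of_no_eigvec {M : Matrix (Fin 2) (Fin 2) F}
    (h : ∀ (c : F) (v : Fin 2 → F), v ≠ 0 → M.mulVec v ≠ c • v) {x y : F} (hxy : x ≠ 0 ∨ y ≠ 0) :
    nrm M.trace M.det x y ≠ 0 := by
  intro h0
  rw [← det_add_smul] at h0
  rcases eq_or_ne y 0 with rfl | hy
  · simp at h0
    exact hxy.elim (fun hx => hx (by simpa using h0)) (fun hy => hy rfl)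
  obtain ⟨v, hv, hv0⟩ := Matrix.exists_mulVec_eq_zero_iff.mpr h0
  refine h (-x / y) v hv ?_
  rw [Matrix.add_mulVec, Matrix.smul_mulVec, Matrix.smul_mulVec, Matrix.one_mulVec] at hv0
  have e := eq_neg_of_add_eq_zero_right hv0
  calc M.mulVec v = y⁻¹ • (y • M.mulVec v) := by rw [smul_smul, inv_mul_cancel₀ hy, one_smul]
    _ = (-x / y) • v := by rw [e, ← neg_smul, smul_smul]; congr 1; ring

theorem nonScalar_of_no_eigvec {M : Matrix (Fin 2) (Fin 2) F}
    (h : ∀ (c : F) (v : Fin 2 → F), v ≠ 0 → M.mulVec v ≠ c • v) : NonScalar M := by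
  by_contra hns
  refine h (M 0 0) ![1, 0] (by simp) ?_
  conv_lhs => rw [smul_one_of_not_nonScalar hns]
  rw [Matrix.smul_mulVec, Matrix.one_mulVec]

end Cfsg.Agent.Char2x2
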