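import Cfsg.Agent.Char2x2.Ind

set_option autoImplicit false

/-! Irreducibility and equality of induced characters. -/

namespace Cfsg.Agent.Char2x2

open scoped ComplexConjugate

variable {F : Type*} [Field F] [Fintype F] [DecidableEq F]

local notation "GL2" => Matrix.GeneralLinearGroup (Fin 2) F
local notation "SL2" => Matrix.SpecialLinearGroup (Fin 2) F

theorem eq_zero_of_classInner_self {G : Type*} [Group G] [Fintype G] {f : G → ℂ}
    (h : Cfsg.classInner f f = 0) : f = 0 := by
  rw [Cfsg.classInner, mul_eq_zero] at h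
  replace h := h.resolve_left (inv_ne_zero (Nat.cast_ne_zero.mpr Nat.card_pos.ne'))
  simp only [Complex.mul_conj] at h
  have h' : ∑ g : G, Complex.normSq (f g) = 0 := by exact_mod_cast h
  funext g
  exact Complex.normSq_eq_zero.mp
    ((Finset.sum_eq_zero_iff_of_nonneg fun g _ => Complex.normSq_nonneg (f g)).mp h' g (Finset.mem_univ g))

theorem isIrrCharacter_psG {α β : MulChar F ℂ} (h : α ≠ β) : Cfsg.IsIrrCharacter GL2 (psG α β) := by
  classical
  rw [CharCore.isIrrCharacter_iff]
  refine ⟨isCharacter_psG α β, ?_⟩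
  rw [classInner_psG]
  simp [h]

theorem psG_swap (α β : MulChar F ℂ) : psG β α = psG α β := by
  classical
  rw [← sub_eq_zero]
  refine eq_zero_of_classInner_self ?_
  rw [CharCore.classInner_sub_left, CharCore.classInner_sub_right, CharCore.classInner_sub_right,
    classInner_psG, classInner_psG, classInner_psG, classInner_psG]
  by_cases h : α = β <;> simp [h, eq_comm]

theorem psG_eq_iff (α β α' β' : MulChar F ℂ) :
    psG α β = psG α' β' ↔ (α = α' ∧ β = β') ∨ (α = β' ∧ β = α') := by
  classical
  constructor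
  · intro h
    by_contra hc
    rw [not_or] at hc
    have h1 := classInner_psG α β α' β'
    have h2 := classInner_psG α β α β
    rw [if_neg hc.1, if_neg hc.2, add_zero, ← h] at h1
    rw [h1] at h2
    split_ifs at h2 <;> norm_num at h2 <;> simp_all
  · rintro (⟨rfl, rfl⟩ | ⟨rfl, rfl⟩)
    · rfl
    · exact psG_swap _ _

theorem psS_inv (α : MulChar F ℂ) : psS α⁻¹ = psS α := by
  classical
  rw [← sub_eq_zero]
  refine eq_zero_of_classInner_self ?_
  rw [CharCore.classInner_sub_left, CharCore.classInner_sub_right, CharCore.classInner_sub_right,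
    classInner_psS, classInner_psS, classInner_psS, classInner_psS]
  simp only [inv_inv, if_true]
  by_cases h : α = α⁻¹
  · simp [← h]
  · simp [h, Ne.symm h]

theorem mulChar_sq_ne_one_iff (α : MulChar F ℂ) : α ^ 2 ≠ 1 ↔ α ≠ α⁻¹ := by
  rw [pow_two, Ne, ← eq_inv_iff_mul_eq_one]

theorem isIrrCharacter_psS_iff (α : MulChar F ℂ) :
    Cfsg.IsIrrCharacter SL2 (psS α) ↔ α ^ 2 ≠ 1 := by
  classical
  rw [mulChar_sq_ne_one_iff, CharCore.isIrrCharacter_iff, classInner_psS]
  by_cases h : α = α⁻¹
  · simp [← h]
  · simp [h, isCharacter_psS]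

end Cfsg.Agent.Char2x2
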