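import Cfsg.Agent.Char2x2.Basic2

set_option autoImplicit false

/-! General lemmas on restrictions to an image of the additive group, and on small decompositions. -/

namespace Cfsg.Agent.Char2x2

open scoped ComplexConjugate

variable {F : Type*} [Field F] [Fintype F]
variable {G : Type*} [Group G] [Finite G]

/-- If the fixed space of the image is zero, the twisted sums vanish. -/
theorem sum_mul_eq_zero {χ : G → ℂ} (hχ : Cfsg.IsCharacter G χ) (u : F → G)
    (hu : ∀ x y, u (x + y) = u x * u y) (h : ∑ x, χ (u x) = 0) (g : G) :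
    ∑ x, χ (g * u x) = 0 := by
  obtain ⟨n, ρ, rfl⟩ := hχ
  set T : Module.End ℂ (Fin n → ℂ) := ∑ x, ρ (u x) with hT
  have hq : (Fintype.card F : ℂ) ≠ 0 := Nat.cast_ne_zero.mpr Fintype.card_ne_zero
  have hTT : T * T = (Fintype.card F : ℂ) • T := by
    have : ∀ x : F, ρ (u x) * T = T := fun x => by
      rw [hT, Finset.mul_sum]
      simp only [← map_mul, ← hu]
      exact Fintype.sum_equiv (Equiv.addLeft x) _ _ fun y => rfl
    rw [hT, Finset.sum_mul, Finset.sum_congr rfl fun x _ => this x, Finset.sum_const, Finset.card_univ,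
      Nat.cast_smul_eq_nsmul]
  set E : Module.End ℂ (Fin n → ℂ) := (Fintype.card F : ℂ)⁻¹ • T with hE
  have hEE : ∀ v, E (E v) = E v := fun v => by
    rw [← Module.End.mul_apply, hE, smul_mul_smul_comm, hTT, smul_smul, mul_assoc, inv_mul_cancel₀ hq, mul_one]
  have hproj : LinearMap.IsProj (LinearMap.range E) E :=
    ⟨fun v => LinearMap.mem_range_self E v, fun v ⟨w, hw⟩ => by rw [← hw, hEE]⟩
  have htr : LinearMap.trace ℂ _ T = 0 := by rw [hT, map_sum]; exact h
  have h2 := hproj.trace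
  rw [hE, map_smul, htr, smul_zero] at h2
  have hrank : Module.finrank ℂ (LinearMap.range E) = 0 := by exact_mod_cast h2.symm
  have hE0 : E = 0 := LinearMap.range_eq_bot.mp (Submodule.finrank_eq_zero.mp hrank)
  have hT0 : T = 0 := by
    rw [hE, smul_eq_zero] at hE0
    exact hE0.resolve_left (inv_ne_zero hq)
  simp only [Representation.character, map_mul]
  rw [← map_sum, ← Finset.mul_sum, ← hT, hT0, mul_zero, map_zero]

/-- Multiplicities of additive characters are natural numbers. -/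
theorem exists_mult {χ : G → ℂ} (hχ : Cfsg.IsCharacter G χ) (u : F → G)
    (hu : ∀ x y, u (x + y) = u x * u y) (ψ : AddChar F ℂ) :
    ∃ m : ℕ, ∑ x, χ (u x) * conj (ψ x) = (Fintype.card F : ℂ) * m := by
  have hu0 : u 0 = 1 := by
    have := hu 0 0
    rw [add_zero] at this
    exact left_eq_mul.mp this
  let j : Multiplicative F →* G :=
    { toFun := fun x => u x.toAdd, map_one' := hu0, map_mul' := fun x y => hu _ _ }
  have h1 := CharCore.isCharacter_comp hχ j
  have h2 : Cfsg.IsCharacter (Multiplicative F) (fun x => ψ x.toAdd) :=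
    CharCore.IsIrrCharacter.isCharacter (CharCore.isIrrCharacter_hom ψ.toMonoidHom.toHomUnits)
  obtain ⟨k, hk⟩ := CharCore.IsCharacter.exists_classInner_eq_natCast h1 h2
  refine ⟨k, ?_⟩
  rw [← hk, Cfsg.classInner, Nat.card_eq_fintype_card, Fintype.card_multiplicative, ← mul_assoc,
    mul_inv_cancel₀ (Nat.cast_ne_zero.mpr Fintype.card_ne_zero), one_mul]
  exact Fintype.sum_equiv Multiplicative.ofAdd _ _ fun x => rfl

/-- A single orbit on `F \ {0}` and no fixed space. -/
theorem exists_degree_one_orbit {χ : G → ℂ} (hχ : Cfsg.IsCharacter G χ) (u : F → G)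
    (hu : ∀ x y, u (x + y) = u x * u y) (horb : ∀ x, x ≠ 0 → χ (u x) = χ (u 1)) (h : ∑ x, χ (u x) = 0) :
    ∃ m : ℕ, χ 1 = (m : ℂ) * ((Fintype.card F : ℂ) - 1) ∧ χ (u 1) = -(m : ℂ) := by
  classical
  have hu0 : u 0 = 1 := by
    have := hu 0 0
    rw [add_zero] at this
    exact left_eq_mul.mp this
  obtain ⟨p, hp⟩ := CharP.exists F
  haveI := hp
  obtain ⟨ψ, hψ⟩ : ∃ ψ : AddChar F ℂ, ψ ≠ 0 := by
    obtain ⟨ψ, hψ⟩ := AddChar.exists_apply_ne_zero.mpr (one_ne_zero (α := F))
    exact ⟨ψ, fun h0 => hψ (by rw [h0]; rfl)⟩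
  have split : ∀ f : F → ℂ, ∑ x, χ (u x) * f x = χ 1 * f 0 + χ (u 1) * ((∑ x, f x) - f 0) := by
    intro f
    rw [← Finset.add_sum_erase _ _ (Finset.mem_univ (0 : F)), hu0, ← Finset.sum_erase_eq_sub (Finset.mem_univ (0:F)),
      Finset.mul_sum]
    congr 1
    exact Finset.sum_congr rfl fun x hx => by rw [horb x (Finset.ne_of_mem_erase hx)]
  obtain ⟨m, hm⟩ := exists_mult hχ u hu ψ
  have hψ' : ∑ x, conj (ψ x) = 0 := by rw [← map_sum, AddChar.sum_eq_zero_iff_ne_zero.mpr hψ, map_zero]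
  rw [split (fun x => conj (ψ x)), hψ', AddChar.map_zero_eq_one, map_one] at hm
  have h' := split (fun _ => 1)
  simp only [mul_one, Finset.sum_const, Finset.card_univ, nsmul_eq_mul] at h'
  rw [h] at h'
  have hq : (Fintype.card F : ℂ) ≠ 0 := Nat.cast_ne_zero.mpr Fintype.card_ne_zero
  have hr : χ (u 1) = -(m : ℂ) := mul_left_cancel₀ hq (by linear_combination -h' - hm)
  refine ⟨m, ?_, hr⟩
  linear_combination hm + hr

/-- A character of norm two is the sum of two different irreducible characters. -/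
theorem exists_add_of_norm_two [Fintype G] {χ : G → ℂ} (hχ : Cfsg.IsCharacter G χ)
    (h : Cfsg.classInner χ χ = 2) :
    ∃ a b : Cfsg.IrrCharacter G, a ≠ b ∧ χ = (a : G → ℂ) + (b : G → ℂ) := by
  classical
  obtain ⟨m, hm⟩ := CharCore.IsCharacter.exists_sum hχ
  rw [hm, CharCore.classInner_sum_sum] at h
  simp only [Complex.conj_natCast] at h
  have h2 : ∑ ψ, m ψ * m ψ = 2 := by exact_mod_cast h
  have hle : ∀ ψ, m ψ ≤ 1 := by
    intro ψ
    have := Finset.single_le_sum (fun i _ => Nat.zero_le (m i * m i)) (Finset.mem_univ ψ)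
    rw [h2] at this
    nlinarith
  have hval : ∀ ψ, m ψ = if m ψ = 1 then 1 else 0 := fun ψ => by
    have := hle ψ
    split_ifs <;> omega
  have hcard : (Finset.univ.filter fun ψ => m ψ = 1).card = 2 := by
    rw [Finset.card_filter, ← h2]
    refine Finset.sum_congr rfl fun ψ _ => ?_
    rcases Nat.le_one_iff_eq_zero_or_eq_one.mp (hle ψ) with e | e <;> simp [e]
  obtain ⟨a, b, hab, hs⟩ := Finset.card_eq_two.mp hcard
  refine ⟨a, b, hab, hm.trans ?_⟩
  calc ∑ ψ, (m ψ : ℂ) • (ψ : G → ℂ) = ∑ ψ ∈ Finset.univ.filter (fun ψ => m ψ = 1), (ψ : G → ℂ) := by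
        rw [Finset.sum_filter]
        refine Finset.sum_congr rfl fun ψ _ => ?_
        rcases Nat.le_one_iff_eq_zero_or_eq_one.mp (hle ψ) with e | e <;> simp [e]
    _ = (a : G → ℂ) + (b : G → ℂ) := by rw [hs, Finset.sum_pair hab]

theorem sum_mulChar [DecidableEq F] [Fintype (MulChar F ℂ)] (a : Fˣ) :
    ∑ χ : MulChar F ℂ, χ (a : F) = if a = 1 then ((Fintype.card F : ℂ) - 1) else 0 := by
  classical
  split_ifs with ha
  · subst ha
    have hc : Fintype.card (MulChar F ℂ) = Fintype.card Fˣ := by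
      rw [← Nat.card_eq_fintype_card, ← Nat.card_eq_fintype_card]
      exact MulChar.card_eq_card_units_of_hasEnoughRootsOfUnity F ℂ
    simp [hc, Fintype.card_units, Nat.cast_sub Fintype.card_pos]
  · obtain ⟨χ₀, hχ₀⟩ := MulChar.exists_apply_ne_one_of_hasEnoughRootsOfUnity F ℂ
      (a := (a : F)) (fun h => ha (Units.ext h))
    have h2 : ∑ χ : MulChar F ℂ, χ (a : F) = χ₀ (a : F) * ∑ χ : MulChar F ℂ, χ (a : F) := by
      rw [Finset.mul_sum]
      exact (Fintype.sum_equiv (Equiv.mulLeft χ₀) _ _ fun χ => (MulChar.mul_apply χ₀ χ _).symm).symm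
    have h3 : (χ₀ (a : F) - 1) * ∑ χ : MulChar F ℂ, χ (a : F) = 0 := by linear_combination -h2
    exact (mul_eq_zero.mp h3).resolve_left (sub_ne_zero.mpr hχ₀)

end Cfsg.Agent.Char2x2
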