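import Cfsg.Agent.Char2x2.Conj

set_option autoImplicit false

/-! Elements of order `p` in characteristic `p`. -/

namespace Cfsg.Agent.Char2x2

variable {F : Type*} [Field F]

local notation "GL2" => Matrix.GeneralLinearGroup (Fin 2) F
local notation "SL2" => Matrix.SpecialLinearGroup (Fin 2) F

theorem sl_orderOf_iff (p : ℕ) [Fact p.Prime] [CharP F p] (g : SL2) :
    orderOf g = p ↔ NonScalar (sm g) ∧ (sm g).trace = 2 := by
  have key := pow_char_eq_one_iff p (sm g)
  rw [show (sm g).det = 1 from g.2] at key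
  rw [orderOf_eq_prime_iff]
  constructor
  · rintro ⟨h1, h2⟩
    obtain ⟨a, b, -⟩ := key.mp ⟨by simpa [sm] using congrArg sm h1, fun h => h2 (Subtype.ext h)⟩
    exact ⟨a, b⟩
  · rintro ⟨a, b⟩
    obtain ⟨h1, h2⟩ := key.mpr ⟨a, b, rfl⟩
    exact ⟨Subtype.ext (by simpa [sm] using h1), fun h => h2 (congrArg sm h)⟩

theorem gl_orderOf_iff (p : ℕ) [Fact p.Prime] [CharP F p] (g : GL2) :
    orderOf g = p ↔ NonScalar (gm g) ∧ (gm g).trace = 2 ∧ (gm g).det = 1 := by
  rw [orderOf_eq_prime_iff, ← pow_char_eq_one_iff p (gm g)]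
  constructor
  · rintro ⟨h1, h2⟩
    exact ⟨by simpa [gm] using congrArg gm h1, fun h => h2 (Units.ext h)⟩
  · rintro ⟨h1, h2⟩
    exact ⟨Units.ext (by simpa [gm] using h1), fun h => h2 (congrArg gm h)⟩

variable [Fintype F]

theorem card_centralizer_unipotent {g : SL2} (hg : NonScalar (sm g)) (ht : (sm g).trace = 2) :
    Nat.card (Subgroup.centralizer ({g} : Set SL2)) = Nat.card {c : F // c ^ 2 = 1} * Fintype.card F := by
  rw [sl_centralizer_card hg, ht, ← Nat.card_eq_fintype_card, ← Nat.card_prod]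
  refine Nat.card_congr
    { toFun := fun w => (⟨w.1.1 + w.1.2, by have := w.2; simp only [nrm] at this; linear_combination this⟩, w.1.2)
      invFun := fun c => ⟨(c.1.1 - c.2, c.2), by have := c.1.2; simp only [nrm]; linear_combination this⟩
      left_inv := fun w => Subtype.ext (by simp)
      right_inv := fun c => Prod.ext (Subtype.ext (by simp)) rfl }

theorem card_class_mul {G : Type*} [Group G] [Finite G] (g : G) :
    Nat.card (ConjClasses.mk g).carrier * Nat.card (Subgroup.centralizer ({g} : Set G)) = Nat.card G := by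
  rw [← SmallGroups.card_conj_mul_centralizer g]
  congr 1

theorem card_class_unipotent {g : SL2} (hg : NonScalar (sm g)) (ht : (sm g).trace = 2) :
    Nat.card (ConjClasses.mk g).carrier * Nat.card {c : F // c ^ 2 = 1} = Fintype.card F ^ 2 - 1 := by
  have h := card_class_mul g
  rw [card_centralizer_unipotent hg ht, LinearGroup.card_SL_two, Nat.card_eq_fintype_card (α := F)] at h
  have hq : 0 < Fintype.card F := Fintype.card_pos
  apply Nat.eq_of_mul_eq_mul_left hq
  rw [← h]; ring

theorem isConj_kmat_two_iff (δ δ' : Fˣ) :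
    IsConj (kmat (2 : F) δ) (kmat 2 δ') ↔ IsSquare ((δ : F) * δ') := by
  rw [isConj_kmat_iff]
  constructor
  · rintro ⟨x, y, h⟩
    exact ⟨(δ : F) * (x + y), by rw [h, nrm]; ring⟩
  · rintro ⟨r, hr⟩
    refine ⟨r / δ, 0, ?_⟩
    simp only [nrm]
    field_simp [δ.ne_zero]
    linear_combination hr

end Cfsg.Agent.Char2x2
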