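import Cfsg.Agent.Char2x2.Cusp
import Cfsg.Agent.Char2x2.OrderP

set_option autoImplicit false

/-! The irreducible characters of `GL₂(q)`. -/

namespace Cfsg.Agent.Char2x2

open Matrix
open scoped ComplexConjugate

variable {F : Type*} [Field F] [Fintype F] [DecidableEq F]

local notation "GL2" => Matrix.GeneralLinearGroup (Fin 2) F

noncomputable instance : Fintype (MulChar F ℂ) := Fintype.ofFinite _

/-- The upper unitriangular element. -/
noncomputable def uG (b : F) : GL2 :=
  Matrix.GeneralLinearGroup.mk'' !![1, b; 0, 1] (by simp [Matrix.det_fin_two])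

omit [Fintype F] [DecidableEq F] in
theorem gm_uG (b : F) : gm (uG b) = !![1, b; 0, 1] := rfl

omit [Fintype F] [DecidableEq F] in
theorem uG_add (x y : F) : uG (x + y) = uG x * uG y := by
  apply Units.ext
  show gm (uG (x + y)) = gm (uG x * uG y)
  rw [gm_mul, gm_uG, gm_uG, gm_uG]
  ext i j
  fin_cases i <;> fin_cases j <;> simp [Matrix.mul_apply, Fin.sum_univ_two, add_comm]

omit [Fintype F] [DecidableEq F] in
theorem isConj_uG {b : F} (hb : b ≠ 0) : IsConj (uG b) (uG (1 : F)) :=
  gl_isConj (Or.inl (by simp [gm_uG, hb])) (Or.inl (by simp [gm_uG]))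
    (by simp [gm_uG, Matrix.trace_fin_two]) (by simp [gm_uG, Matrix.det_fin_two])

/-- `α ∘ det`. -/
noncomputable def linG (α : MulChar F ℂ) : GL2 → ℂ := fun g => α (gm g).det

omit [DecidableEq F] in
theorem isIrr_linG (α : MulChar F ℂ) : Cfsg.IsIrrCharacter GL2 (linG α) := by
  have h := CharCore.isIrrCharacter_hom (α.toUnitHom.comp (Matrix.GeneralLinearGroup.det (n := Fin 2) (R := F)))
  convert h using 1
  funext g
  simp [linG, gm]

/-- The Steinberg character twisted by `α ∘ det`. -/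
noncomputable def stG (α : MulChar F ℂ) : GL2 → ℂ := psG α α - linG α

theorem classInner_psG_linG (α : MulChar F ℂ) : Cfsg.classInner (psG α α) (linG α) = 1 := by
  classical
  rw [psG, CharInd.classInner_indFun_left _ _
    (CharCore.IsCharacter.isClassFunction (CharCore.IsIrrCharacter.isCharacter (isIrr_linG α)))]
  have h : (fun b : BG (F := F) => linG α (b : GL2)) = thG α α := by
    funext b
    have h0 := mem_BG.mp b.2
    simp only [linG, thG, Matrix.det_fin_two, h0, mul_zero, sub_zero, map_mul]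
  rw [h]
  convert CharCore.classInner_irr_self
    (⟨thG α α, CharCore.isIrrCharacter_hom (homG α α).toHomUnits⟩ : Cfsg.IrrCharacter ↥(BG (F := F)))

theorem isIrr_stG (α : MulChar F ℂ) : Cfsg.IsIrrCharacter GL2 (stG α) := by
  classical
  obtain ⟨a, b, hab, h⟩ := exists_add_of_norm_two (isCharacter_psG α α) (by
    rw [classInner_psG]; norm_num)
  let l : Cfsg.IrrCharacter GL2 := ⟨linG α, isIrr_linG α⟩
  have h1 := classInner_psG_linG α
  rw [h, CharCore.classInner_add_left, show linG α = (l : GL2 → ℂ) from rfl, CharCore.classInner_irr,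
    CharCore.classInner_irr] at h1
  have hl : stG α = (a : GL2 → ℂ) ∨ stG α = (b : GL2 → ℂ) := by
    rw [stG, h, show linG α = (l : GL2 → ℂ) from rfl]
    by_cases hb : b = l
    · left; rw [hb, add_sub_cancel_right]
    · by_cases ha : a = l
      · right; rw [ha, add_sub_cancel_left]
      · rw [if_neg ha, if_neg hb] at h1; norm_num at h1
  rcases hl with e | e <;> rw [e]
  · exact a.2
  · exact b.2

theorem psG_eq_add (α : MulChar F ℂ) : psG α α = linG α + stG α := by rw [stG]; abel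

theorem psG_one_apply (α β : MulChar F ℂ) : psG α β 1 = (Fintype.card F : ℂ) + 1 := by
  rw [psG_apply]
  simp [gm, fixRoot, Finset.card_univ, add_comm]

theorem psG_uG (α β : MulChar F ℂ) : psG α β (uG (1 : F)) = 1 := by
  rw [psG_apply, gm_uG]
  simp [fixRoot]

omit [DecidableEq F] in
theorem linG_one (α : MulChar F ℂ) : linG α 1 = 1 := by simp [linG, gm]

omit [DecidableEq F] in
theorem linG_uG (α : MulChar F ℂ) : linG α (uG (1 : F)) = 1 := by simp [linG, gm_uG, Matrix.det_fin_two]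

theorem stG_one (α : MulChar F ℂ) : stG α 1 = (Fintype.card F : ℂ) := by
  simp [stG, psG_one_apply, linG_one]

theorem stG_uG (α : MulChar F ℂ) : stG α (uG (1 : F)) = 0 := by
  simp [stG, psG_uG, linG_uG]

theorem psG_diag (α β : MulChar F ℂ) {g : GL2} (h01 : gm g 0 1 = 0) (h10 : gm g 1 0 = 0)
    (hne : gm g 0 0 ≠ gm g 1 1) :
    psG α β g = α (gm g 0 0) * β (gm g 1 1) + α (gm g 1 1) * β (gm g 0 0) := by
  rw [psG_apply, if_pos h10]
  congr 1
  simp only [fixRoot, h01, h10, zero_add, zero_mul, sub_zero]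
  rw [Finset.sum_congr rfl (fun c _ => if_congr (mul_eq_zero.trans
    (or_iff_right (sub_ne_zero.mpr hne))) rfl rfl), Finset.sum_ite_eq' Finset.univ]
  simp

theorem psG_elliptic (α β : MulChar F ℂ) {g : GL2}
    (h : ∀ (c : F) (v : Fin 2 → F), v ≠ 0 → (gm g).mulVec v ≠ c • v) : psG α β g = 0 := by
  have h10 : gm g 1 0 ≠ 0 := fun h10 => h (gm g 0 0) ![1, 0] (by simp) (by
    ext i; fin_cases i <;> simp [gm, Matrix.mulVec, dotProduct, Fin.sum_univ_two] at h10 ⊢
    exact h10)
  rw [psG_apply, if_neg h10, zero_add]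
  refine Finset.sum_eq_zero fun c _ => if_neg fun hc => h (gm g 1 0 * c + gm g 1 1) ![c, 1] (by simp) ?_
  ext i; fin_cases i <;> simp [gm, fixRoot, Matrix.mulVec, dotProduct, Fin.sum_univ_two] at hc ⊢
  linear_combination hc

omit [DecidableEq F] in
theorem norm_linG (α : MulChar F ℂ) (g : GL2) : ‖linG α g‖ = 1 := by
  have h := CharCore.norm_hom_apply (α.toUnitHom.comp (Matrix.GeneralLinearGroup.det (n := Fin 2) (R := F))) g
  simpa [linG, gm] using h

/-- No constituent in common with the permutation part: the cuspidal characters. -/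
def IsCuspG (χ : GL2 → ℂ) : Prop := ∑ b : F, χ (uG b) = 0

theorem sum_classInner_psG (χ : Cfsg.IrrCharacter GL2) :
    ∑ α : MulChar F ℂ, ∑ β : MulChar F ℂ, Cfsg.classInner (psG α β) (χ : GL2 → ℂ) =
      (Fintype.card F : ℂ)⁻¹ * conj (∑ b : F, (χ : GL2 → ℂ) (uG b)) := by
  classical
  simp only [psG, CharInd.classInner_indFun_left _ _ (CharCore.irr_isClassFunction χ)]
  unfold Cfsg.classInner
  simp only [← Finset.mul_sum, card_BG]
  simp only [← coordG.sum_comp, Fintype.sum_prod_type (α₂ := F)]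
  have hth : ∀ (α β : MulChar F ℂ) (ad : Fˣ × Fˣ) (b : F),
      thG α β (coordG (ad, b)) = α (ad.1 : F) * β (ad.2 : F) := fun α β ad b => by
    obtain ⟨a, d⟩ := ad
    have e : gm ((coordG ((a, d), b) : BG (F := F)) : GL2) = !![(a : F), b; 0, (d : F)] := rfl
    simp only [gm] at e
    simp [thG, e]
  simp only [hth]
  rw [Finset.sum_congr rfl fun α _ => Finset.sum_comm, Finset.sum_comm,
    Finset.sum_eq_single (1, 1)]
  · have e : ∀ b : F, ((coordG ((1, 1), b) : BG (F := F)) : GL2) = uG b := fun b => Units.ext (by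
      show gm _ = _
      rfl)
    simp only [Units.val_one, map_one, one_mul, e, Finset.sum_const, Finset.card_univ, nsmul_eq_mul]
    have hc : (Fintype.card (MulChar F ℂ) : ℂ) = (Fintype.card F : ℂ) - 1 := by
      have := sum_mulChar (F := F) 1
      simpa using this
    rw [hc, map_sum]
    push_cast [Nat.cast_sub (show 1 ≤ Fintype.card F from Fintype.card_pos)]
    have hq1 : (Fintype.card F : ℂ) - 1 ≠ 0 :=
      sub_ne_zero.mpr (by exact_mod_cast (Fintype.one_lt_card (α := F)).ne')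
    field_simp
  · rintro ⟨a, d⟩ - hne
    simp only [mul_assoc, ← Finset.mul_sum, ← Finset.sum_mul]
    rcases eq_or_ne a 1 with rfl | ha
    · have hd : d ≠ 1 := fun hd => hne (by rw [hd])
      simp [sum_mulChar d, hd]
    · simp [sum_mulChar a, ha]
  · intro h; exact absurd (Finset.mem_univ _) h

/-- The classification. -/
theorem cases_GL (χ : Cfsg.IrrCharacter GL2) :
    IsCuspG (χ : GL2 → ℂ) ∨ (∃ α, (χ : GL2 → ℂ) = linG α) ∨ (∃ α, (χ : GL2 → ℂ) = stG α) ∨
      (∃ α β, α ≠ β ∧ (χ : GL2 → ℂ) = psG α β) := by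
  classical
  by_cases hc : IsCuspG (χ : GL2 → ℂ)
  · exact Or.inl hc
  refine Or.inr ?_
  obtain ⟨α, β, hne⟩ : ∃ α β, Cfsg.classInner (psG α β) (χ : GL2 → ℂ) ≠ 0 := by
    by_contra hcon
    push Not at hcon
    have h := sum_classInner_psG χ
    simp only [hcon, Finset.sum_const_zero] at h
    exact hc (by simpa [IsCuspG, Fintype.card_ne_zero, ← map_sum] using h.symm)
  have key : ∀ (f : GL2 → ℂ) (hf : Cfsg.IsIrrCharacter GL2 f),
      Cfsg.classInner f (χ : GL2 → ℂ) ≠ 0 → (χ : GL2 → ℂ) = f := by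
    intro f hf h
    by_contra hne'
    exact h (CharCore.classInner_irr_of_ne (χ := ⟨f, hf⟩) (fun e => hne' (congrArg Subtype.val e).symm))
  by_cases hab : α = β
  · subst hab
    rw [psG_eq_add, CharCore.classInner_add_left] at hne
    by_cases h1 : Cfsg.classInner (linG α) (χ : GL2 → ℂ) = 0
    · rw [h1, zero_add] at hne
      exact Or.inr (Or.inl ⟨α, key _ (isIrr_stG α) hne⟩)
    · exact Or.inl ⟨α, key _ (isIrr_linG α) h1⟩
  · exact Or.inr (Or.inr ⟨α, β, hab, key _ (isIrrCharacter_psG hab) hne⟩)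

theorem sum_uG_eq (χ : Cfsg.IrrCharacter GL2) :
    ∑ b : F, (χ : GL2 → ℂ) (uG b) =
      (χ : GL2 → ℂ) 1 + ((Fintype.card F : ℂ) - 1) * (χ : GL2 → ℂ) (uG 1) := by
  classical
  rw [← Finset.add_sum_erase _ _ (Finset.mem_univ (0 : F)), Finset.sum_congr rfl (fun b hb => by
    obtain ⟨c, hc⟩ := isConj_iff.mp (isConj_uG (Finset.ne_of_mem_erase hb))
    rw [← CharCore.irr_isClassFunction χ (uG b) c, hc]), Finset.sum_const, Finset.card_erase_of_mem (Finset.mem_univ _),
    Finset.card_univ, nsmul_eq_mul, Nat.cast_sub Fintype.card_pos, Nat.cast_one]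
  congr 2
  refine congrArg (χ : GL2 → ℂ) (Units.ext ?_)
  show gm (uG (0 : F)) = gm 1
  rw [gm_uG, gm_one]; exact (Matrix.one_fin_two).symm

theorem not_cusp_linG (α : MulChar F ℂ) : ¬ IsCuspG (linG α) := by
  intro h
  rw [IsCuspG, sum_uG_eq ⟨_, isIrr_linG α⟩] at h
  simp only [linG_one, linG_uG, mul_one] at h
  exact Nat.cast_ne_zero.mpr (Fintype.card_ne_zero (α := F)) (by linear_combination h)

theorem not_cusp_stG (α : MulChar F ℂ) : ¬ IsCuspG (stG α) := by
  intro h
  rw [IsCuspG, sum_uG_eq ⟨_, isIrr_stG α⟩] at h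
  simp only [stG_one, stG_uG, mul_zero, add_zero] at h
  exact Nat.cast_ne_zero.mpr (Fintype.card_ne_zero (α := F)) h

theorem not_cusp_psG {α β : MulChar F ℂ} (hab : α ≠ β) : ¬ IsCuspG (psG α β) := by
  intro h
  rw [IsCuspG, sum_uG_eq ⟨_, isIrrCharacter_psG hab⟩] at h
  simp only [psG_one_apply, psG_uG, mul_one] at h
  exact Nat.cast_ne_zero.mpr (Fintype.card_ne_zero (α := F)) (by linear_combination (1 / 2 : ℂ) * h)

/-- The families. -/
noncomputable def linSet : Finset (Cfsg.IrrCharacter GL2) :=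
  open Classical in Finset.univ.filter fun χ => ∃ α, (χ : GL2 → ℂ) = linG α
noncomputable def stSet : Finset (Cfsg.IrrCharacter GL2) :=
  open Classical in Finset.univ.filter fun χ => ∃ α, (χ : GL2 → ℂ) = stG α
noncomputable def psSet : Finset (Cfsg.IrrCharacter GL2) :=
  open Classical in Finset.univ.filter fun χ => ∃ α β, α ≠ β ∧ (χ : GL2 → ℂ) = psG α β
noncomputable def cuspSet : Finset (Cfsg.IrrCharacter GL2) :=
  open Classical in Finset.univ.filter fun χ => IsCuspG (χ : GL2 → ℂ)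

theorem card_mulChar : Fintype.card (MulChar F ℂ) = Fintype.card F - 1 := by
  rw [← Nat.card_eq_fintype_card, MulChar.card_eq_card_units_of_hasEnoughRootsOfUnity, Nat.card_units,
    Nat.card_eq_fintype_card]

omit [DecidableEq F] in
theorem linG_injective : Function.Injective (linG : MulChar F ℂ → GL2 → ℂ) := by
  intro α β h
  ext a
  have := congrFun h (Matrix.GeneralLinearGroup.mk'' !![(a : F), 0; 0, 1] (by simp [Matrix.det_fin_two]))
  simpa [linG, gm, Matrix.det_fin_two] using this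

theorem stG_injective : Function.Injective (stG : MulChar F ℂ → GL2 → ℂ) := by
  classical
  intro α β h
  by_contra hne
  have h1 := classInner_psG α α β β
  simp only [hne, false_and, if_false, add_zero] at h1
  rw [psG_eq_add, psG_eq_add, h,
    CharCore.classInner_add_left, CharCore.classInner_add_right, CharCore.classInner_add_right] at h1
  have i1 : Cfsg.classInner (linG α) (linG β) = 0 :=
    CharCore.classInner_irr_of_ne (χ := ⟨_, isIrr_linG α⟩) (ψ := ⟨_, isIrr_linG β⟩)
      (fun e => hne (linG_injective (congrArg Subtype.val e)))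
  have i2 : ∀ γ, Cfsg.classInner (linG γ) (stG β) = 0 := fun γ =>
    CharCore.classInner_irr_of_ne (χ := ⟨_, isIrr_linG γ⟩) (ψ := ⟨_, isIrr_stG β⟩)
      (fun e => by
        have := congrFun (congrArg Subtype.val e) 1
        simp only [linG_one, stG_one] at this
        exact (Fintype.one_lt_card (α := F)).ne' (by exact_mod_cast this.symm))
  rw [i1, i2, ← CharCore.conj_classInner (linG β), i2, map_zero,
    CharCore.classInner_irr_self ⟨_, isIrr_stG β⟩] at h1
  norm_num at h1

theorem card_linSet : (linSet (F := F)).card = Fintype.card F - 1 := by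
  classical
  rw [← card_mulChar, ← Finset.card_univ, linSet]
  refine (Finset.card_bij (fun α _ => (⟨linG α, isIrr_linG α⟩ : Cfsg.IrrCharacter GL2))
    (fun α _ => by simp) (fun α _ β _ e => linG_injective (congrArg Subtype.val e)) ?_).symm
  intro χ hχ
  obtain ⟨α, hα⟩ := (Finset.mem_filter.mp hχ).2
  exact ⟨α, Finset.mem_univ _, Subtype.ext hα.symm⟩

theorem card_stSet : (stSet (F := F)).card = Fintype.card F - 1 := by
  classical
  rw [← card_mulChar, ← Finset.card_univ, stSet]
  refine (Finset.card_bij (fun α _ => (⟨stG α, isIrr_stG α⟩ : Cfsg.IrrCharacter GL2))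
    (fun α _ => by simp) (fun α _ β _ e => stG_injective (congrArg Subtype.val e)) ?_).symm
  intro χ hχ
  obtain ⟨α, hα⟩ := (Finset.mem_filter.mp hχ).2
  exact ⟨α, Finset.mem_univ _, Subtype.ext hα.symm⟩

theorem card_psSet : (psSet (F := F)).card * 2 = (Fintype.card F - 1) * (Fintype.card F - 2) := by
  classical
  have hmem : ∀ p ∈ (Finset.univ : Finset (MulChar F ℂ)).offDiag, p.1 ≠ p.2 := fun p hp =>
    (Finset.mem_offDiag.mp hp).2.2
  have h := Finset.card_eq_sum_card_fiberwise
    (f := fun p : MulChar F ℂ × MulChar F ℂ => psG p.1 p.2)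
    (s := (Finset.univ : Finset (MulChar F ℂ)).offDiag)
    (t := (psSet (F := F)).image fun χ : Cfsg.IrrCharacter GL2 => (χ : GL2 → ℂ)) (fun p hp => by
      refine Finset.mem_image.mpr ⟨⟨_, isIrrCharacter_psG (hmem p hp)⟩, ?_, rfl⟩
      exact Finset.mem_filter.mpr ⟨Finset.mem_univ _, p.1, p.2, hmem p hp, rfl⟩)
  rw [Finset.sum_const_nat (m := 2), Finset.card_image_of_injective _ Subtype.val_injective,
    Finset.offDiag_card, Finset.card_univ, card_mulChar] at h
  · rw [← h]
    obtain ⟨r, hr⟩ : ∃ r, Fintype.card F = r + 1 := ⟨_, (Nat.sub_add_cancel Fintype.card_pos).symm⟩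
    rw [hr]
    simp only [Nat.add_sub_cancel, show r + 1 - 2 = r - 1 by omega]
    rw [Nat.mul_sub, mul_one]
  · intro f hf
    obtain ⟨χ, hχ, rfl⟩ := Finset.mem_image.mp hf
    obtain ⟨α, β, hab, e⟩ := (Finset.mem_filter.mp hχ).2
    rw [Finset.card_eq_two]
    refine ⟨(α, β), (β, α), fun h => hab (congrArg Prod.fst h), ?_⟩
    ext ⟨γ, δ⟩
    simp only [Finset.mem_filter, Finset.mem_offDiag, Finset.mem_univ, true_and, Finset.mem_insert,
      Finset.mem_singleton, Prod.mk.injEq, e, psG_eq_iff]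
    constructor
    · rintro ⟨-, ⟨rfl, rfl⟩ | ⟨rfl, rfl⟩⟩ <;> simp
    · rintro (⟨rfl, rfl⟩ | ⟨rfl, rfl⟩) <;> simp [hab, Ne.symm hab]

theorem deg_of_mem {χ : Cfsg.IrrCharacter GL2} :
    (χ ∈ linSet → (χ : GL2 → ℂ) 1 = 1) ∧ (χ ∈ stSet → (χ : GL2 → ℂ) 1 = (Fintype.card F : ℂ)) ∧
      (χ ∈ psSet → (χ : GL2 → ℂ) 1 = (Fintype.card F : ℂ) + 1) := by
  classical
  refine ⟨fun h => ?_, fun h => ?_, fun h => ?_⟩
  · obtain ⟨α, e⟩ := (Finset.mem_filter.mp h).2; rw [e, linG_one]
  · obtain ⟨α, e⟩ := (Finset.mem_filter.mp h).2; rw [e, stG_one]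
  · obtain ⟨α, β, -, e⟩ := (Finset.mem_filter.mp h).2; rw [e, psG_one_apply]

open Classical in
theorem exists_cusp_degree {χ : Cfsg.IrrCharacter GL2} (h : χ ∈ cuspSet) :
    ∃ m : ℕ, (χ : GL2 → ℂ) 1 = (m : ℂ) * ((Fintype.card F : ℂ) - 1) ∧
      (χ : GL2 → ℂ) (uG 1) = -(m : ℂ) :=
  exists_degree_one_orbit (CharCore.irr_isCharacter χ) uG uG_add (fun x hx => by
    obtain ⟨c, hc⟩ := isConj_iff.mp (isConj_uG hx)
    rw [← CharCore.irr_isClassFunction χ (uG x) c, hc]) (Finset.mem_filter.mp h).2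

theorem partition_GL [DecidableEq (Cfsg.IrrCharacter GL2)] :
    (Finset.univ : Finset (Cfsg.IrrCharacter GL2)) = ((linSet ∪ stSet) ∪ psSet) ∪ cuspSet ∧
      Disjoint (linSet (F := F)) stSet ∧ Disjoint (linSet ∪ stSet) (psSet (F := F)) ∧
      Disjoint ((linSet ∪ stSet) ∪ psSet) (cuspSet (F := F)) := by
  classical
  have hq := Fintype.one_lt_card (α := F)
  refine ⟨?_, ?_, ?_, ?_⟩
  · ext χ
    simp only [Finset.mem_univ, true_iff, Finset.mem_union, linSet, stSet, psSet, cuspSet, Finset.mem_filter,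
      true_and]
    rcases cases_GL χ with h | h | h | h <;> simp [h]
  · rw [Finset.disjoint_left]
    intro χ a b
    have := ((deg_of_mem.1 a).symm.trans (deg_of_mem.2.1 b))
    exact hq.ne' (by exact_mod_cast this.symm)
  · rw [Finset.disjoint_left]
    intro χ a b
    have hb := deg_of_mem.2.2 b
    rcases Finset.mem_union.mp a with a | a
    · rw [deg_of_mem.1 a] at hb
      exact Nat.cast_ne_zero.mpr (show Fintype.card F ≠ 0 by omega) (by linear_combination -hb)
    · rw [deg_of_mem.2.1 a] at hb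
      exact one_ne_zero (α := ℂ) (by linear_combination -hb)
  · rw [Finset.disjoint_left]
    intro χ a b
    have hb := (Finset.mem_filter.mp b).2
    simp only [Finset.mem_union, linSet, stSet, psSet, Finset.mem_filter, Finset.mem_univ, true_and] at a
    rcases a with (⟨α, e⟩ | ⟨α, e⟩) | ⟨α, β, hab, e⟩
    · exact not_cusp_linG α (e ▸ hb)
    · exact not_cusp_stG α (e ▸ hb)
    · exact not_cusp_psG hab (e ▸ hb)

/-- Cuspidal characters have degree `q - 1`; their number. -/
theorem cusp_GL : (cuspSet (F := F)).card * 2 = Fintype.card F * (Fintype.card F - 1) ∧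
    ∀ χ ∈ cuspSet (F := F), (χ : GL2 → ℂ) 1 = (Fintype.card F : ℂ) - 1 ∧ (χ : GL2 → ℂ) (uG 1) = -1 := by
  classical
  obtain ⟨hu, d1, d2, d3⟩ := partition_GL (F := F)
  choose m hm hmu using fun (χ : Cfsg.IrrCharacter GL2) (h : χ ∈ cuspSet) => exists_cusp_degree h
  have hq : 2 ≤ Fintype.card F := Fintype.one_lt_card
  have hN : (Finset.univ : Finset (Cfsg.IrrCharacter GL2)).card = Fintype.card F ^ 2 - 1 := by
    rw [Finset.card_univ, ← Nat.card_eq_fintype_card, CharCore.card_irr, gl_card_classes]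
  rw [hu, Finset.card_union_of_disjoint d3, Finset.card_union_of_disjoint d2, Finset.card_union_of_disjoint d1,
    card_linSet, card_stSet] at hN
  have hS := CharCore.sum_degree_sq (G := GL2)
  rw [hu, Finset.sum_union d3, Finset.sum_union d2, Finset.sum_union d1,
    Finset.sum_congr rfl (fun χ h => by rw [deg_of_mem.1 h]),
    Finset.sum_congr (s₁ := stSet) rfl (fun χ h => by rw [deg_of_mem.2.1 h]),
    Finset.sum_congr (s₁ := psSet) rfl (fun χ h => by rw [deg_of_mem.2.2 h]),
    Finset.sum_const, Finset.sum_const, Finset.sum_const, card_linSet, card_stSet, ← Finset.sum_attach (cuspSet),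
    Finset.sum_congr rfl (fun χ _ => by rw [hm χ.1 χ.2, mul_pow]), ← Finset.sum_mul] at hS
  have hGL : Nat.card GL2 = (Fintype.card F ^ 2 - 1) * (Fintype.card F ^ 2 - Fintype.card F) := by
    rw [Matrix.card_GL_field]
    simp [Fin.prod_univ_two]
  have hP := card_psSet (F := F)
  have hC : 2 * (cuspSet (F := F)).card = Fintype.card F * (Fintype.card F - 1) := by
    obtain ⟨r, hr⟩ : ∃ r, Fintype.card F = r + 2 := ⟨_, (Nat.sub_add_cancel hq).symm⟩
    rw [hr] at hN hP ⊢
    simp only [show r + 2 - 1 = r + 1 by omega, show r + 2 - 2 = r by omega] at hN hP ⊢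
    rw [show (r + 2) ^ 2 - 1 = r * r + 4 * r + 3 by
      rw [show (r + 2) ^ 2 = r * r + 4 * r + 3 + 1 by ring]; simp] at hN
    nlinarith
  refine ⟨by omega, ?_⟩
  have hq1 : (Fintype.card F : ℂ) - 1 ≠ 0 :=
    sub_ne_zero.mpr (by exact_mod_cast (by omega : Fintype.card F ≠ 1))
  set q : ℂ := (Fintype.card F : ℂ)
  have hm2 : ∑ χ ∈ (cuspSet (F := F)).attach, ((m χ.1 χ.2 : ℂ)) ^ 2 = ((cuspSet (F := F)).card : ℂ) := by
    have hP' : ((psSet (F := F)).card : ℂ) * 2 = (q - 1) * (q - 2) := by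
      have := congrArg (fun n : ℕ => (n : ℂ)) hP
      push_cast [Nat.cast_sub (show 1 ≤ Fintype.card F by omega), Nat.cast_sub hq] at this
      exact this
    have hC' : 2 * ((cuspSet (F := F)).card : ℂ) = q * (q - 1) := by
      have := congrArg (fun n : ℕ => (n : ℂ)) hC
      push_cast [Nat.cast_sub (show 1 ≤ Fintype.card F by omega)] at this
      exact this
    have hGL' : (Nat.card GL2 : ℂ) = (q ^ 2 - 1) * (q ^ 2 - q) := by
      rw [hGL]
      push_cast [Nat.cast_sub (show 1 ≤ Fintype.card F ^ 2 from Nat.one_le_pow _ _ (by omega)),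
        Nat.cast_sub (show Fintype.card F ≤ Fintype.card F ^ 2 from Nat.le_self_pow (by norm_num) _)]
      rfl
    rw [hGL'] at hS
    simp only [nsmul_eq_mul, one_pow, mul_one] at hS
    push_cast [Nat.cast_sub (show 1 ≤ Fintype.card F by omega)] at hS
    apply mul_right_cancel₀ (pow_ne_zero 2 hq1)
    linear_combination hS - (q + 1) ^ 2 / 2 * hP' - (q - 1) ^ 2 / 2 * hC'
  have hm2' : ∑ χ ∈ (cuspSet (F := F)).attach, m χ.1 χ.2 ^ 2 = (cuspSet (F := F)).card := by
    exact_mod_cast hm2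
  have hpos : ∀ χ ∈ (cuspSet (F := F)).attach, 1 ≤ m χ.1 χ.2 ^ 2 := fun χ _ => by
    have h0 : m χ.1 χ.2 ≠ 0 := fun h0 =>
      CharCore.irr_apply_one_ne_zero χ.1 (by rw [hm χ.1 χ.2, h0]; simp)
    exact Nat.one_le_iff_ne_zero.mpr (pow_ne_zero 2 h0)
  intro χ hχ
  have hsum : ∑ χ ∈ (cuspSet (F := F)).attach, 1 = ∑ χ ∈ (cuspSet (F := F)).attach, m χ.1 χ.2 ^ 2 := by
    rw [hm2']; simp
  have h1 := (Finset.sum_eq_sum_iff_of_le hpos).mp hsum ⟨χ, hχ⟩ (Finset.mem_attach _ _)
  have : m χ hχ = 1 := by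
    have := h1.symm
    simpa using this
  exact ⟨by rw [hm χ hχ, this]; simp [q], by rw [hmu χ hχ, this]; simp⟩

end Cfsg.Agent.Char2x2
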