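import Cfsg.Agent.Char2x2.GL

set_option autoImplicit false

/-! Consequences of the classification for `GL₂`. -/

namespace Cfsg.Agent.Char2x2

open scoped ComplexConjugate

variable {F : Type*} [Field F] [Fintype F] [DecidableEq F]

local notation "GL2" => Matrix.GeneralLinearGroup (Fin 2) F

omit [DecidableEq F] in
theorem u_eq_uG (u : GL2) (hu : (u : Matrix (Fin 2) (Fin 2) F) = !![1, 1; 0, 1]) : u = uG 1 :=
  Units.ext hu

/-- All cases with the degree and the value at `uG 1`. -/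
theorem table_GL (χ : Cfsg.IrrCharacter GL2) :
    (χ ∈ linSet ∧ (χ : GL2 → ℂ) 1 = 1 ∧ (χ : GL2 → ℂ) (uG 1) = 1) ∨
    (χ ∈ stSet ∧ (χ : GL2 → ℂ) 1 = (Fintype.card F : ℂ) ∧ (χ : GL2 → ℂ) (uG 1) = 0) ∨
    (χ ∈ psSet ∧ (χ : GL2 → ℂ) 1 = (Fintype.card F : ℂ) + 1 ∧ (χ : GL2 → ℂ) (uG 1) = 1) ∨
    (χ ∈ cuspSet ∧ (χ : GL2 → ℂ) 1 = (Fintype.card F : ℂ) - 1 ∧ (χ : GL2 → ℂ) (uG 1) = -1) := by
  classical
  rcases cases_GL χ with h | ⟨α, e⟩ | ⟨α, e⟩ | ⟨α, β, hab, e⟩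
  · have hm : χ ∈ cuspSet (F := F) := Finset.mem_filter.mpr ⟨Finset.mem_univ _, h⟩
    exact Or.inr (Or.inr (Or.inr ⟨hm, cusp_GL.2 χ hm⟩))
  · exact Or.inl ⟨Finset.mem_filter.mpr ⟨Finset.mem_univ _, α, e⟩, by rw [e, linG_one], by rw [e, linG_uG]⟩
  · exact Or.inr (Or.inl ⟨Finset.mem_filter.mpr ⟨Finset.mem_univ _, α, e⟩, by rw [e, stG_one], by rw [e, stG_uG]⟩)
  · exact Or.inr (Or.inr (Or.inl ⟨Finset.mem_filter.mpr ⟨Finset.mem_univ _, α, β, hab, e⟩,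
      by rw [e, psG_one_apply], by rw [e, psG_uG]⟩))

theorem eq_of_deg_st {χ : Cfsg.IrrCharacter GL2} (h : (χ : GL2 → ℂ) 1 = (Fintype.card F : ℂ)) :
    ∃ α, (χ : GL2 → ℂ) = stG α := by
  classical
  rcases table_GL χ with ⟨-, e, -⟩ | ⟨hm, -, -⟩ | ⟨-, e, -⟩ | ⟨-, e, -⟩
  · rw [e] at h
    exact absurd (by exact_mod_cast h) (Fintype.one_lt_card (α := F)).ne
  · exact (Finset.mem_filter.mp hm).2
  · rw [e] at h; exact absurd (by linear_combination h) (one_ne_zero (α := ℂ))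
  · rw [e] at h; exact absurd (by linear_combination -h) (one_ne_zero (α := ℂ))

theorem card_irr_deg {d : ℂ} (s : Finset (Cfsg.IrrCharacter GL2))
    (h : ∀ χ : Cfsg.IrrCharacter GL2, (χ : GL2 → ℂ) 1 = d ↔ χ ∈ s) :
    Nat.card {χ : Cfsg.IrrCharacter GL2 // (χ : GL2 → ℂ) 1 = d} = s.card := by
  rw [← Nat.card_eq_finsetCard]
  exact Nat.card_congr (Equiv.subtypeEquivRight h)

theorem degrees_GL (hq : 3 ≤ Fintype.card F) (χ : Cfsg.IrrCharacter GL2) :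
    ((χ : GL2 → ℂ) 1 = 1 ↔ χ ∈ linSet) ∧ ((χ : GL2 → ℂ) 1 = (Fintype.card F : ℂ) ↔ χ ∈ stSet) ∧
    ((χ : GL2 → ℂ) 1 = (Fintype.card F : ℂ) + 1 ↔ χ ∈ psSet) ∧
    ((χ : GL2 → ℂ) 1 = (Fintype.card F : ℂ) - 1 ↔ χ ∈ cuspSet) := by
  classical
  have n1 : (1 : ℂ) ≠ (Fintype.card F : ℂ) := by exact_mod_cast (by omega : 1 ≠ Fintype.card F)
  have n2 : (1 : ℂ) ≠ (Fintype.card F : ℂ) + 1 := by exact_mod_cast (by omega : 1 ≠ Fintype.card F + 1)
  have n3 : (1 : ℂ) ≠ (Fintype.card F : ℂ) - 1 := fun h =>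
    absurd (show ((2 : ℕ) : ℂ) = (Fintype.card F : ℕ) by push_cast; linear_combination h)
      (by exact_mod_cast (by omega : 2 ≠ Fintype.card F))
  have n4 : (Fintype.card F : ℂ) ≠ (Fintype.card F : ℂ) + 1 := by simp
  have n5 : (Fintype.card F : ℂ) ≠ (Fintype.card F : ℂ) - 1 := fun h => one_ne_zero (α := ℂ) (by linear_combination h)
  have n6 : (Fintype.card F : ℂ) + 1 ≠ (Fintype.card F : ℂ) - 1 := fun h =>
    two_ne_zero (α := ℂ) (by linear_combination h)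
  obtain ⟨-, d1, d2, d3⟩ := partition_GL (F := F)
  rw [Finset.disjoint_left] at d1 d2 d3
  simp only [Finset.mem_union] at d2 d3
  rcases table_GL χ with ⟨hm, e, -⟩ | ⟨hm, e, -⟩ | ⟨hm, e, -⟩ | ⟨hm, e, -⟩
  · simp [hm, e, n1, n2, n3, fun h => d1 hm h, fun h => d2 (Or.inl hm) h, fun h => d3 (Or.inl (Or.inl hm)) h]
  · have a1 : χ ∉ linSet := fun h => d1 h hm
    have a2 : χ ∉ psSet := fun h => d2 (Or.inr hm) h
    have a3 : χ ∉ cuspSet := fun h => d3 (Or.inl (Or.inr hm)) h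
    simp [hm, e, n1.symm, n4, n5, a1, a2, a3]
  · have a1 : χ ∉ linSet := fun h => d2 (Or.inl h) hm
    have a2 : χ ∉ stSet := fun h => d2 (Or.inr h) hm
    have a3 : χ ∉ cuspSet := fun h => d3 (Or.inr hm) h
    simp [hm, e, n2.symm, n4.symm, n6, a1, a2, a3]
  · have a1 : χ ∉ linSet := fun h => d3 (Or.inl (Or.inl h)) hm
    have a2 : χ ∉ stSet := fun h => d3 (Or.inl (Or.inr h)) hm
    have a3 : χ ∉ psSet := fun h => d3 (Or.inr h) hm
    simp [hm, e, n3.symm, n5.symm, n6.symm, a1, a2, a3]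

theorem cusp_diag {χ : Cfsg.IrrCharacter GL2} (h : χ ∈ cuspSet) {g : GL2} (h01 : gm g 0 1 = 0)
    (h10 : gm g 1 0 = 0) (hne : gm g 0 0 ≠ gm g 1 1) : (χ : GL2 → ℂ) g = 0 := by
  classical
  have hs := sum_mul_eq_zero (CharCore.irr_isCharacter χ) uG uG_add (Finset.mem_filter.mp h).2 g
  have hconj : ∀ x : F, (χ : GL2 → ℂ) (g * uG x) = (χ : GL2 → ℂ) g := by
    intro x
    have hgx : gm (g * uG x) = !![gm g 0 0, gm g 0 0 * x; 0, gm g 1 1] := by
      rw [gm_mul, gm_uG]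
      ext i j
      fin_cases i <;> fin_cases j <;> simp [Matrix.mul_apply, Fin.sum_univ_two, h01, h10]
    obtain ⟨c, hc⟩ := isConj_iff.mp (gl_isConj (g := g * uG x) (h := g)
      (Or.inr (Or.inr (by rw [hgx]; simpa using hne))) (Or.inr (Or.inr hne))
      (by rw [hgx]; simp [Matrix.trace_fin_two]) (by rw [hgx]; simp [Matrix.det_fin_two, h01]))
    rw [← CharCore.irr_isClassFunction χ (g * uG x) c, hc]
  rw [Finset.sum_congr rfl (fun x _ => hconj x), Finset.sum_const, Finset.card_univ, nsmul_eq_mul] at hs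
  exact (mul_eq_zero.mp hs).resolve_left (Nat.cast_ne_zero.mpr Fintype.card_ne_zero)

theorem not_elliptic_two (hq : Fintype.card F = 2) (g : GL2) (h01 : gm g 0 1 = 0) (h10 : gm g 1 0 = 0) :
    gm g 0 0 = gm g 1 1 := by
  classical
  have hd := (isUnit_det_gm g).ne_zero
  rw [Matrix.det_fin_two, h01, zero_mul, sub_zero] at hd
  have : ∀ a : F, a ≠ 0 → a = 1 := by
    intro a ha
    have hc : (Finset.univ.erase (0 : F)).card ≤ 1 := by
      rw [Finset.card_erase_of_mem (Finset.mem_univ _), Finset.card_univ, hq]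
    exact Finset.card_le_one.mp hc a (by simp [ha]) 1 (by simp)
  rw [this _ (left_ne_zero_of_mul hd), this _ (right_ne_zero_of_mul hd)]

end Cfsg.Agent.Char2x2
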