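import Cfsg.Agent.Char2x2.Conj
import Cfsg.Agent.Lib.CharCore.Complete
import Cfsg.Agent.Lib.CharCore.Linear
import Cfsg.Agent.Lib.CharInd.Basic
import Cfsg.Agent.Lib.CharInd.Char
import Cfsg.Prelude.Def_ParabolicCharacters

set_option autoImplicit false

/-! Characters of `GL₂` and `SL₂` induced from the upper triangular subgroup. -/

namespace Cfsg.Agent.Char2x2

open Matrix
open scoped ComplexConjugate

variable {F : Type*} [Field F]

local notation "GL2" => Matrix.GeneralLinearGroup (Fin 2) F
local notation "SL2" => Matrix.SpecialLinearGroup (Fin 2) F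

/-- Upper triangular subgroup of `GL₂`. -/
abbrev BG : Subgroup GL2 := Cfsg.upperTriangularGL 2 F

/-- Upper triangular subgroup of `SL₂`. -/
abbrev BS : Subgroup SL2 := (Cfsg.upperTriangularGL 2 F).comap Matrix.SpecialLinearGroup.toGL

theorem mem_BG {g : GL2} : g ∈ (BG : Subgroup GL2) ↔ gm g 1 0 = 0 := by
  constructor
  · intro h
    exact h (show id (0 : Fin 2) < id 1 by decide)
  · intro h i j hij
    fin_cases i <;> fin_cases j <;> simp at hij
    exact h

theorem mem_BS {g : SL2} : g ∈ (BS : Subgroup SL2) ↔ sm g 1 0 = 0 := mem_BG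

/-- The linear character `b ↦ α(b₁₁) β(b₂₂)`. -/
noncomputable def thG (α β : MulChar F ℂ) : ↥(BG (F := F)) → ℂ := fun b =>
  α (((b : GL2) : Matrix (Fin 2) (Fin 2) F) 0 0) * β (((b : GL2) : Matrix (Fin 2) (Fin 2) F) 1 1)

/-- The linear character `b ↦ α(b₁₁)`. -/
noncomputable def thS (α : MulChar F ℂ) : ↥(BS (F := F)) → ℂ := fun b =>
  α (((b : SL2) : Matrix (Fin 2) (Fin 2) F) 0 0)

noncomputable def homG (α β : MulChar F ℂ) : ↥(BG (F := F)) →* ℂ where
  toFun := thG α β
  map_one' := by simp [thG]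
  map_mul' x y := by
    have hx : gm (x : GL2) 1 0 = 0 := mem_BG.mp x.2
    have hy : gm (y : GL2) 1 0 = 0 := mem_BG.mp y.2
    simp only [gm] at hx hy
    simp [thG, Matrix.mul_apply, Fin.sum_univ_two, hx, hy]
    ring

noncomputable def homS (α : MulChar F ℂ) : ↥(BS (F := F)) →* ℂ where
  toFun := thS α
  map_one' := by simp [thS]
  map_mul' x y := by
    have hy : sm (y : SL2) 1 0 = 0 := mem_BS.mp y.2
    simp only [sm] at hy
    simp [thS, Matrix.mul_apply, Fin.sum_univ_two, hy]

theorem isCharacter_thG (α β : MulChar F ℂ) : Cfsg.IsCharacter _ (thG α β) :=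
  CharCore.IsIrrCharacter.isCharacter (CharCore.isIrrCharacter_hom (homG α β).toHomUnits)

theorem isCharacter_thS (α : MulChar F ℂ) : Cfsg.IsCharacter _ (thS α) :=
  CharCore.IsIrrCharacter.isCharacter (CharCore.isIrrCharacter_hom (homS α).toHomUnits)

variable [Fintype F] [DecidableEq F]

/-- The induced character. -/
noncomputable def psG (α β : MulChar F ℂ) : GL2 → ℂ := Cfsg.indFun BG (thG α β)

/-- The induced character. -/
noncomputable def psS (α : MulChar F ℂ) : SL2 → ℂ := Cfsg.indFun BS (thS α)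

theorem isCharacter_psG (α β : MulChar F ℂ) : Cfsg.IsCharacter GL2 (psG α β) :=
  CharInd.isCharacter_indFun _ (isCharacter_thG α β)

theorem isCharacter_psS (α : MulChar F ℂ) : Cfsg.IsCharacter SL2 (psS α) :=
  CharInd.isCharacter_indFun _ (isCharacter_thS α)

/-- Coset representative in `GL₂` for the line through `(c, 1)`. -/
noncomputable def wG : Option F → GL2
  | none => 1
  | some c => Matrix.GeneralLinearGroup.mk'' !![c, 1; 1, 0] (by simp [Matrix.det_fin_two])

/-- Coset representative in `SL₂` for the line through `(c, 1)`. -/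
def wS : Option F → SL2
  | none => 1
  | some c => ⟨!![c, -1; 1, 0], by simp [Matrix.det_fin_two]⟩

omit [Fintype F] [DecidableEq F] in
theorem conj_wG (g : GL2) (c : F) :
    gm ((wG (some c))⁻¹ * g * wG (some c)) =
      !![gm g 1 0 * c + gm g 1 1, gm g 1 0; gm g 0 1 + (gm g 0 0 - gm g 1 1) * c - gm g 1 0 * c ^ 2,
        gm g 0 0 - gm g 1 0 * c] := by
  have hinv : gm ((wG (some c))⁻¹) = !![0, 1; 1, -c] := by
    have h : gm (wG (some c)) * !![0, 1; 1, -c] = 1 := by
      simp only [wG]
      ext i j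
      fin_cases i <;> fin_cases j <;> simp [gm, Matrix.mul_apply, Fin.sum_univ_two]
    calc gm ((wG (some c))⁻¹) = gm ((wG (some c))⁻¹) * (gm (wG (some c)) * !![0, 1; 1, -c]) := by
          rw [h, mul_one]
      _ = !![0, 1; 1, -c] := by rw [← mul_assoc, ← gm_mul, inv_mul_cancel, gm_one, one_mul]
  rw [gm_mul, gm_mul, hinv]
  ext i j
  fin_cases i <;> fin_cases j <;>
    simp [wG, gm, Matrix.mul_apply, Fin.sum_univ_two, Matrix.vecMul, dotProduct] <;> ring

omit [Fintype F] [DecidableEq F] in
theorem conj_wS (g : SL2) (c : F) :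
    sm ((wS (some c))⁻¹ * g * wS (some c)) =
      !![sm g 1 0 * c + sm g 1 1, -sm g 1 0; -(sm g 0 1 + (sm g 0 0 - sm g 1 1) * c - sm g 1 0 * c ^ 2),
        sm g 0 0 - sm g 1 0 * c] := by
  have hinv : sm ((wS (some c))⁻¹) = !![0, 1; -1, c] := by
    simp only [sm]
    rw [Matrix.SpecialLinearGroup.coe_inv, wS, Matrix.adjugate_fin_two]
    simp
  simp only [sm, Matrix.SpecialLinearGroup.coe_mul] at hinv ⊢
  rw [hinv]
  ext i j
  fin_cases i <;> fin_cases j <;>
    simp [wS, Matrix.mul_apply, Fin.sum_univ_two, Matrix.vecMul, dotProduct] <;> ring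

omit [Fintype F] [DecidableEq F] in
theorem bij_wG : Function.Bijective fun o : Option F => (wG o : GL2 ⧸ (BG : Subgroup GL2)) := by
  constructor
  · intro o o' e
    rw [QuotientGroup.eq, mem_BG] at e
    have h : gm (wG o) * gm ((wG o)⁻¹ * wG o') = gm (wG o') := by rw [← gm_mul, mul_inv_cancel_left]
    generalize gm ((wG o)⁻¹ * wG o') = X at e h
    have h10 := congrFun (congrFun h 1) 0
    have h00 := congrFun (congrFun h 0) 0
    rw [Matrix.mul_apply, Fin.sum_univ_two, e] at h10 h00
    rcases o with _ | c <;> rcases o' with _ | c' <;> simp [wG, gm] at h10 h00 ⊢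
    · simp [h10] at h00
    · simp [h10] at h00
      exact h00
  · intro x
    obtain ⟨h, rfl⟩ := QuotientGroup.mk_surjective x
    by_cases h0 : gm h 1 0 = 0
    · exact ⟨none, QuotientGroup.eq.mpr (by simpa [wG] using mem_BG.mpr h0)⟩
    · refine ⟨some (gm h 0 0 / gm h 1 0), QuotientGroup.eq.mpr (mem_BG.mpr ?_)⟩
      set w := wG (some (gm h 0 0 / gm h 1 0)) with hw
      have e : gm w * gm (w⁻¹ * h) = gm h := by rw [← gm_mul, mul_inv_cancel_left]
      generalize gm (w⁻¹ * h) = X at e ⊢
      rw [hw] at e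
      have h10 := congrFun (congrFun e 1) 0
      have h00 := congrFun (congrFun e 0) 0
      rw [Matrix.mul_apply, Fin.sum_univ_two] at h10 h00
      simp [wG, gm] at h10 h00
      rw [h10, div_mul_cancel₀ _ (by simpa [gm] using h0)] at h00
      simpa using h00

omit [Fintype F] [DecidableEq F] in
theorem bij_wS : Function.Bijective fun o : Option F => (wS o : SL2 ⧸ (BS : Subgroup SL2)) := by
  constructor
  · intro o o' e
    rw [QuotientGroup.eq, mem_BS] at e
    have h : sm (wS o) * sm ((wS o)⁻¹ * wS o') = sm (wS o') := by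
      simp only [sm, ← Matrix.SpecialLinearGroup.coe_mul, mul_inv_cancel_left]
    generalize sm ((wS o)⁻¹ * wS o') = X at e h
    have h10 := congrFun (congrFun h 1) 0
    have h00 := congrFun (congrFun h 0) 0
    rw [Matrix.mul_apply, Fin.sum_univ_two, e] at h10 h00
    rcases o with _ | c <;> rcases o' with _ | c' <;> simp [wS, sm] at h10 h00 ⊢
    · simp [h10] at h00
    · simp [h10] at h00
      exact h00
  · intro x
    obtain ⟨h, rfl⟩ := QuotientGroup.mk_surjective x
    by_cases h0 : sm h 1 0 = 0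
    · exact ⟨none, QuotientGroup.eq.mpr (by simpa [wS] using mem_BS.mpr h0)⟩
    · refine ⟨some (sm h 0 0 / sm h 1 0), QuotientGroup.eq.mpr (mem_BS.mpr ?_)⟩
      set w := wS (some (sm h 0 0 / sm h 1 0)) with hw
      have e : sm w * sm (w⁻¹ * h) = sm h := by
        simp only [sm, ← Matrix.SpecialLinearGroup.coe_mul, mul_inv_cancel_left]
      generalize sm (w⁻¹ * h) = X at e ⊢
      rw [hw] at e
      have h10 := congrFun (congrFun e 1) 0
      have h00 := congrFun (congrFun e 0) 0
      rw [Matrix.mul_apply, Fin.sum_univ_two] at h10 h00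
      simp [wS, sm] at h10 h00
      rw [h10, div_mul_cancel₀ _ (by simpa [sm] using h0)] at h00
      simpa using h00

/-- Coordinate `c` of a fixed line `(c, 1)`. -/
abbrev fixRoot (M : Matrix (Fin 2) (Fin 2) F) (c : F) : Prop :=
  M 0 1 + (M 0 0 - M 1 1) * c - M 1 0 * c ^ 2 = 0

theorem isClassFunction_thG (α β : MulChar F ℂ) : Cfsg.IsClassFunction _ (thG α β) :=
  CharCore.IsCharacter.isClassFunction (isCharacter_thG α β)

theorem isClassFunction_thS (α : MulChar F ℂ) : Cfsg.IsClassFunction _ (thS α) :=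
  CharCore.IsCharacter.isClassFunction (isCharacter_thS α)

theorem psG_apply (α β : MulChar F ℂ) (g : GL2) :
    psG α β g = (if gm g 1 0 = 0 then α (gm g 0 0) * β (gm g 1 1) else 0) +
      ∑ c : F, if fixRoot (gm g) c then α (gm g 1 0 * c + gm g 1 1) * β (gm g 0 0 - gm g 1 0 * c) else 0 := by
  classical
  let e := Equiv.ofBijective _ (bij_wG (F := F))
  rw [psG, CharInd.indFun_apply_cosets (isClassFunction_thG α β) (fun q => wG (e.symm q))
    (fun q => e.apply_symm_apply q), ← e.sum_comp]
  simp only [e.symm_apply_apply, Fintype.sum_option]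
  congr 1
  · simp only [show (wG (none : Option F)) = 1 from rfl, inv_one, one_mul, mul_one]
    split_ifs with h
    · rw [CharInd.extendByZero_mem _ (mem_BG.mpr h)]; rfl
    · rw [CharInd.extendByZero_notMem _ (fun hm => h (mem_BG.mp hm))]
  · refine Finset.sum_congr rfl fun c _ => ?_
    have hm := conj_wG g c
    split_ifs with h
    · rw [CharInd.extendByZero_mem _ (mem_BG.mpr (by rw [hm]; simpa using h))]
      simp only [thG]
      rw [show (((wG (some c))⁻¹ * g * wG (some c) : GL2) : Matrix (Fin 2) (Fin 2) F) = _ from hm]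
      simp
    · rw [CharInd.extendByZero_notMem _ (fun hmem => h (by simpa [hm] using mem_BG.mp hmem))]

theorem psS_apply (α : MulChar F ℂ) (g : SL2) :
    psS α g = (if sm g 1 0 = 0 then α (sm g 0 0) else 0) +
      ∑ c : F, if fixRoot (sm g) c then α (sm g 1 0 * c + sm g 1 1) else 0 := by
  classical
  let e := Equiv.ofBijective _ (bij_wS (F := F))
  rw [psS, CharInd.indFun_apply_cosets (isClassFunction_thS α) (fun q => wS (e.symm q))
    (fun q => e.apply_symm_apply q), ← e.sum_comp]
  simp only [e.symm_apply_apply, Fintype.sum_option]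
  congr 1
  · simp only [show (wS (none : Option F)) = 1 from rfl, inv_one, one_mul, mul_one]
    split_ifs with h
    · rw [CharInd.extendByZero_mem _ (mem_BS.mpr h)]; rfl
    · rw [CharInd.extendByZero_notMem _ (fun hm => h (mem_BS.mp hm))]
  · refine Finset.sum_congr rfl fun c _ => ?_
    have hm := conj_wS g c
    split_ifs with h
    · rw [CharInd.extendByZero_mem _ (mem_BS.mpr (by rw [hm]; simp; linear_combination -h))]
      simp only [thS]
      rw [show (((wS (some c))⁻¹ * g * wS (some c) : SL2) : Matrix (Fin 2) (Fin 2) F) = _ from hm]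
      simp
    · rw [CharInd.extendByZero_notMem _ (fun hmem => h (by
        have h' := mem_BS.mp hmem
        rw [hm] at h'
        simp at h'
        linear_combination -h'))]

/-- Coordinates on the upper triangular subgroup of `GL₂`. -/
noncomputable def coordG : (Fˣ × Fˣ) × F ≃ (BG : Subgroup GL2) :=
  Equiv.ofBijective (fun p => ⟨Matrix.GeneralLinearGroup.mk'' !![(p.1.1 : F), p.2; 0, (p.1.2 : F)]
      (by simp [Matrix.det_fin_two]), mem_BG.mpr (by simp [gm])⟩) ⟨by
    rintro ⟨⟨a, d⟩, b⟩ ⟨⟨a', d'⟩, b'⟩ e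
    have e' := congrArg (fun z : (BG : Subgroup GL2) => gm (z : GL2)) e
    simp [gm] at e'
    obtain ⟨⟨h1, h2⟩, h3⟩ := e'
    simp [Units.ext_iff, h1, h2, h3], by
    rintro ⟨g, hg⟩
    have h0 : gm g 1 0 = 0 := mem_BG.mp hg
    have hd := (isUnit_det_gm g).ne_zero
    rw [Matrix.det_fin_two, h0, mul_zero, sub_zero] at hd
    refine ⟨((Units.mk0 _ (left_ne_zero_of_mul hd), Units.mk0 _ (right_ne_zero_of_mul hd)), gm g 0 1),
      Subtype.ext (Units.ext ?_)⟩
    ext i j
    fin_cases i <;> fin_cases j <;> simp [gm] at h0 ⊢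
    exact h0.symm⟩

/-- Coordinates on the upper triangular subgroup of `SL₂`. -/
noncomputable def coordS : Fˣ × F ≃ (BS : Subgroup SL2) :=
  Equiv.ofBijective (fun p => ⟨⟨!![(p.1 : F), p.2; 0, (p.1 : F)⁻¹], by simp [Matrix.det_fin_two]⟩,
      mem_BS.mpr (by simp [sm])⟩) ⟨by
    rintro ⟨a, b⟩ ⟨a', b'⟩ e
    have e' := congrArg (fun z : (BS : Subgroup SL2) => sm (z : SL2)) e
    simp [sm] at e'
    simp [Units.ext_iff, e'], by
    rintro ⟨g, hg⟩
    have h0 : sm g 1 0 = 0 := mem_BS.mp hg
    have hd : (sm g).det = 1 := g.2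
    rw [Matrix.det_fin_two, h0, mul_zero, sub_zero] at hd
    refine ⟨(Units.mk0 (sm g 0 0) (left_ne_zero_of_mul_eq_one hd), sm g 0 1), Subtype.ext (Subtype.ext ?_)⟩
    ext i j
    fin_cases i <;> fin_cases j <;> simp [sm] at h0 hd ⊢
    · exact h0.symm
    · exact inv_eq_of_mul_eq_one_right hd⟩

theorem card_BG : Nat.card (BG : Subgroup GL2) = (Fintype.card F - 1) ^ 2 * Fintype.card F := by
  rw [← Nat.card_congr coordG, Nat.card_prod, Nat.card_prod, Nat.card_units, Nat.card_eq_fintype_card, sq]

theorem card_BS : Nat.card (BS : Subgroup SL2) = (Fintype.card F - 1) * Fintype.card F := by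
  rw [← Nat.card_congr coordS, Nat.card_prod, Nat.card_units, Nat.card_eq_fintype_card]

omit [DecidableEq F] in
theorem conj_mulChar (χ : MulChar F ℂ) (a : F) : conj (χ a) = χ⁻¹ a := by
  rw [starRingEnd_apply, ← MulChar.star_apply, MulChar.star_eq_inv]

open Classical in
theorem sum_units_mulChar (χ : MulChar F ℂ) :
    ∑ a : Fˣ, χ (a : F) = if χ = 1 then ((Fintype.card F : ℂ) - 1) else 0 := by
  classical
  have h : ∑ a : Fˣ, χ (a : F) = ∑ a : F, χ a := by
    rw [← Finset.sum_erase (s := Finset.univ) (f := fun a : F => χ a) (a := 0) (MulChar.map_nonunit χ (by simp))]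
    refine Finset.sum_bij (fun a _ => (a : F)) (fun a _ => Finset.mem_erase.mpr ⟨a.ne_zero, Finset.mem_univ _⟩)
      (fun a _ b _ e => Units.ext e) (fun b hb => ⟨Units.mk0 b (Finset.ne_of_mem_erase hb), Finset.mem_univ _, rfl⟩)
      (fun _ _ => rfl)
  rw [h]
  split_ifs with hχ
  · subst hχ
    rw [MulChar.sum_one_eq_card_units, Fintype.card_units, Nat.cast_sub Fintype.card_pos, Nat.cast_one]
  · exact MulChar.sum_eq_zero_of_ne_one hχ

theorem sum_units_mul_conj (α α' : MulChar F ℂ) [Decidable (α = α')] :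
    ∑ a : Fˣ, α (a : F) * conj (α' (a : F)) = if α = α' then ((Fintype.card F : ℂ) - 1) else 0 := by
  classical
  simp only [conj_mulChar, ← MulChar.mul_apply, sum_units_mulChar, mul_inv_eq_one]

theorem classInner_psG (α β α' β' : MulChar F ℂ) [Decidable (α = α' ∧ β = β')] [Decidable (α = β' ∧ β = α')] :
    Cfsg.classInner (psG α β) (psG α' β') =
      (if α = α' ∧ β = β' then 1 else 0) + (if α = β' ∧ β = α' then (1 : ℂ) else 0) := by
  classical
  rw [show psG α β = Cfsg.indFun BG (thG α β) from rfl,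
    CharInd.classInner_indFun_left _ _ (CharCore.IsCharacter.isClassFunction (isCharacter_psG α' β'))]
  unfold Cfsg.classInner
  rw [← coordG.sum_comp, Fintype.sum_prod_type, card_BG]
  have key : ∀ ad : Fˣ × Fˣ, ∑ b : F, thG α β (coordG (ad, b)) * conj (psG α' β' ((coordG (ad, b) : BG) : GL2)) =
      (Fintype.card F : ℂ) * ((α (ad.1 : F) * conj (α' (ad.1 : F))) * (β (ad.2 : F) * conj (β' (ad.2 : F))) +
        (α (ad.1 : F) * conj (β' (ad.1 : F))) * (β (ad.2 : F) * conj (α' (ad.2 : F)))) := by
    rintro ⟨a, d⟩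
    have hb : ∀ b : F, gm ((coordG ((a, d), b) : BG) : GL2) = !![(a : F), b; 0, (d : F)] := fun b => rfl
    have ht : ∀ b : F, thG α β (coordG ((a, d), b)) = α (a : F) * β (d : F) := fun b => by
      have e := hb b
      simp only [gm] at e
      simp [thG, e]
    have hval : ∀ b : F, psG α' β' ((coordG ((a, d), b) : BG) : GL2) = α' (a : F) * β' (d : F) +
        ∑ c : F, if b = -(((a : F) - d) * c) then α' (d : F) * β' (a : F) else 0 := by
      intro b
      rw [psG_apply, hb]
      simp
      refine Finset.sum_congr rfl fun c _ => if_congr ?_ rfl rfl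
      simp only [fixRoot]; simp
      constructor <;> intro h <;> linear_combination h
    simp only [ht, hval]
    rw [← Finset.mul_sum, ← map_sum, Finset.sum_add_distrib, Finset.sum_comm]
    simp only [Finset.sum_ite_eq', Finset.mem_univ, if_true, Finset.sum_const, Finset.card_univ,
      nsmul_eq_mul, map_add, map_mul, map_natCast]
    ring
  simp only [key, ← Finset.mul_sum, Finset.sum_add_distrib, Fintype.sum_prod_type]
  simp only [← Finset.mul_sum, ← Finset.sum_mul, sum_units_mul_conj]
  have hq : (2 : ℕ) ≤ Fintype.card F := Fintype.one_lt_card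
  have hq0 : (Fintype.card F : ℂ) ≠ 0 := Nat.cast_ne_zero.mpr (by omega)
  have hq1 : (Fintype.card F : ℂ) - 1 ≠ 0 := sub_ne_zero.mpr (by exact_mod_cast (by omega : Fintype.card F ≠ 1))
  push_cast [Nat.cast_sub (by omega : 1 ≤ Fintype.card F)]
  by_cases h1 : α = α' <;> by_cases h2 : β = β' <;> by_cases h3 : α = β' <;> by_cases h4 : β = α' <;>
    simp [h1, h2, h3, h4] <;> field_simp <;> simp_all <;> ring_nf

theorem classInner_psS (α α' : MulChar F ℂ) [Decidable (α = α')] [Decidable (α = α'⁻¹)] :
    Cfsg.classInner (psS α) (psS α') =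
      (if α = α' then 1 else 0) + (if α = α'⁻¹ then (1 : ℂ) else 0) := by
  classical
  rw [show psS α = Cfsg.indFun BS (thS α) from rfl,
    CharInd.classInner_indFun_left _ _ (CharCore.IsCharacter.isClassFunction (isCharacter_psS α'))]
  unfold Cfsg.classInner
  rw [← coordS.sum_comp, Fintype.sum_prod_type, card_BS]
  have key : ∀ a : Fˣ, ∑ b : F, thS α (coordS (a, b)) * conj (psS α' ((coordS (a, b) : BS) : SL2)) =
      (Fintype.card F : ℂ) * (α (a : F) * conj (α' (a : F)) + α (a : F) * conj (α'⁻¹ (a : F))) := by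
    intro a
    have hb : ∀ b : F, sm ((coordS (a, b) : BS) : SL2) = !![(a : F), b; 0, (a : F)⁻¹] := fun b => rfl
    have ht : ∀ b : F, thS α (coordS (a, b)) = α (a : F) := fun b => by
      have e := hb b
      simp only [sm] at e
      simp [thS, e]
    have hval : ∀ b : F, psS α' ((coordS (a, b) : BS) : SL2) = α' (a : F) +
        ∑ c : F, if b = -(((a : F) - (a : F)⁻¹) * c) then α'⁻¹ (a : F) else 0 := by
      intro b
      rw [psS_apply, hb]
      simp [MulChar.inv_apply']
      refine Finset.sum_congr rfl fun c _ => if_congr ?_ rfl rfl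
      simp only [fixRoot]; simp
      constructor <;> intro h <;> linear_combination h
    simp only [ht, hval]
    rw [← Finset.mul_sum, ← map_sum, Finset.sum_add_distrib, Finset.sum_comm]
    simp only [Finset.sum_ite_eq', Finset.mem_univ, if_true, Finset.sum_const, Finset.card_univ,
      nsmul_eq_mul, map_add, map_mul, map_natCast]
    ring
  simp only [key, ← Finset.mul_sum, Finset.sum_add_distrib, sum_units_mul_conj]
  have hq : (2 : ℕ) ≤ Fintype.card F := Fintype.one_lt_card
  have hq0 : (Fintype.card F : ℂ) ≠ 0 := Nat.cast_ne_zero.mpr (by omega)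
  have hq1 : (Fintype.card F : ℂ) - 1 ≠ 0 := sub_ne_zero.mpr (by exact_mod_cast (by omega : Fintype.card F ≠ 1))
  push_cast [Nat.cast_sub (by omega : 1 ≤ Fintype.card F)]
  split_ifs <;> field_simp <;> ring

end Cfsg.Agent.Char2x2
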