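import Cfsg.Agent.Char2x2.Cusp
import Cfsg.Agent.Char2x2.OrderP

set_option autoImplicit false

/-! Characters of `SL₂(q)`: induced part, classification. -/

namespace Cfsg.Agent.Char2x2

open Matrix
open scoped ComplexConjugate

variable {F : Type*} [Field F] [Fintype F] [DecidableEq F]

local notation "SL2" => Matrix.SpecialLinearGroup (Fin 2) F

noncomputable instance fintypeMulCharC : Fintype (MulChar F ℂ) := Fintype.ofFinite _

/-- The upper unitriangular element. -/
def uS (b : F) : SL2 := ⟨!![1, b; 0, 1], by simp [Matrix.det_fin_two]⟩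

omit [Fintype F] [DecidableEq F] in
theorem sm_uS (b : F) : sm (uS b) = !![1, b; 0, 1] := rfl

omit [Fintype F] [DecidableEq F] in
theorem uS_add (x y : F) : uS (x + y) = uS x * uS y := by
  apply Subtype.ext
  show sm (uS (x + y)) = sm (uS x) * sm (uS y)
  rw [sm_uS, sm_uS, sm_uS]
  ext i j
  fin_cases i <;> fin_cases j <;> simp [Matrix.mul_apply, Fin.sum_univ_two, add_comm]

omit [Fintype F] [DecidableEq F] in
theorem uS_zero : uS (0 : F) = 1 := Subtype.ext (Matrix.one_fin_two).symm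

omit [Fintype F] [DecidableEq F] in
theorem nonScalar_uS {b : F} (hb : b ≠ 0) : NonScalar (sm (uS b)) := Or.inl (by simpa [sm_uS] using hb)

omit [Fintype F] [DecidableEq F] in
theorem trace_uS (b : F) : (sm (uS b)).trace = 2 := by simp [sm_uS, Matrix.trace_fin_two]; norm_num

omit [DecidableEq F] in
theorem isConj_uS {b c : F} (hb : b ≠ 0) (hc : c ≠ 0) (h : IsSquare (b * c)) : IsConj (uS b) (uS c) := by
  have key : ∀ (b : F) (hb : b ≠ 0), IsConj (uS b) (kmat 2 (-Units.mk0 b hb)) := fun b hb => by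
    have := isConj_kmat (g := uS b) (a := 0) (b := 1) (δ := -Units.mk0 b hb) (by
      rw [det_basisMat, sm_uS]; simp)
    rwa [trace_uS] at this
  exact (key b hb).trans (((isConj_kmat_two_iff _ _).mpr (by simpa using h)).trans (key c hc).symm)

theorem eq_of_isConj {χ : SL2 → ℂ} (hχ : Cfsg.IsCharacter SL2 χ) {g h : SL2} (c : IsConj g h) : χ g = χ h := by
  obtain ⟨x, rfl⟩ := isConj_iff.mp c
  exact (CharCore.IsCharacter.isClassFunction hχ g x).symm

/-- The trivial character. -/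
abbrev trivS : SL2 → ℂ := 1

/-- The Steinberg character. -/
noncomputable def stS : SL2 → ℂ := psS (1 : MulChar F ℂ) - trivS

theorem classInner_psS_one : Cfsg.classInner (psS (1 : MulChar F ℂ)) trivS = 1 := by
  classical
  rw [psS, CharInd.classInner_indFun_left _ _
    (CharCore.IsCharacter.isClassFunction CharCore.isCharacter_one)]
  have h : (fun b : BS (F := F) => trivS (b : SL2)) = thS (1 : MulChar F ℂ) := by
    funext b
    have h0 := mem_BS.mp b.2
    have hd : (sm (b : SL2)).det = 1 := (b : SL2).2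
    rw [Matrix.det_fin_two, h0, mul_zero, sub_zero] at hd
    simp [trivS, thS, MulChar.one_apply (isUnit_iff_ne_zero.mpr (left_ne_zero_of_mul_eq_one hd))]
  rw [h]
  convert CharCore.classInner_irr_self
    (⟨thS (1 : MulChar F ℂ), CharCore.isIrrCharacter_hom (homS (1 : MulChar F ℂ)).toHomUnits⟩ :
      Cfsg.IrrCharacter ↥(BS (F := F)))

theorem isIrr_stS : Cfsg.IsIrrCharacter SL2 (stS (F := F)) := by
  classical
  obtain ⟨a, b, hab, h⟩ := exists_add_of_norm_two (isCharacter_psS (1 : MulChar F ℂ)) (by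
    rw [classInner_psS]; norm_num)
  let l : Cfsg.IrrCharacter SL2 := ⟨trivS, CharCore.isIrrCharacter_one⟩
  have h1 := classInner_psS_one (F := F)
  rw [h, CharCore.classInner_add_left, show (trivS : SL2 → ℂ) = (l : SL2 → ℂ) from rfl, CharCore.classInner_irr,
    CharCore.classInner_irr] at h1
  have hl : stS = (a : SL2 → ℂ) ∨ stS = (b : SL2 → ℂ) := by
    rw [stS, h, show (trivS : SL2 → ℂ) = (l : SL2 → ℂ) from rfl]
    by_cases hb : b = l
    · left; rw [hb, add_sub_cancel_right]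
    · by_cases ha : a = l
      · right; rw [ha, add_sub_cancel_left]
      · rw [if_neg ha, if_neg hb] at h1; norm_num at h1
  rcases hl with e | e <;> rw [e]
  · exact a.2
  · exact b.2

theorem psS_one_apply (α : MulChar F ℂ) : psS α 1 = (Fintype.card F : ℂ) + 1 := by
  rw [psS_apply]
  simp [sm, fixRoot, Finset.card_univ, add_comm]

theorem psS_uS (α : MulChar F ℂ) {b : F} (hb : b ≠ 0) : psS α (uS b) = 1 := by
  rw [psS_apply, sm_uS]
  simp [fixRoot, hb]

theorem stS_one : stS (1 : SL2) = (Fintype.card F : ℂ) := by simp [stS, trivS, psS_one_apply]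

theorem stS_uS {b : F} (hb : b ≠ 0) : stS (uS b) = 0 := by simp [stS, trivS, psS_uS _ hb]

omit [DecidableEq F] in
theorem diag_inv {g : SL2} (h10 : sm g 1 0 = 0) : sm g 1 1 = (sm g 0 0)⁻¹ := by
  have hd : (sm g).det = 1 := g.2
  rw [Matrix.det_fin_two, h10, mul_zero, sub_zero] at hd
  exact (inv_eq_of_mul_eq_one_right hd).symm

omit [DecidableEq F] in
theorem diag_ne {g : SL2} (h10 : sm g 1 0 = 0) (hsq : sm g 0 0 ^ 2 ≠ 1) : sm g 0 0 ≠ sm g 1 1 := by
  intro h
  apply hsq
  have hd : (sm g).det = 1 := g.2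
  rw [Matrix.det_fin_two, h10, mul_zero, sub_zero, ← h] at hd
  rw [sq]; exact hd

theorem psS_diag (α : MulChar F ℂ) {g : SL2} (h01 : sm g 0 1 = 0) (h10 : sm g 1 0 = 0)
    (hsq : sm g 0 0 ^ 2 ≠ 1) : psS α g = α (sm g 0 0) + α (sm g 1 1) := by
  rw [psS_apply, if_pos h10]
  congr 1
  simp only [fixRoot, h01, h10, zero_add, zero_mul, sub_zero]
  rw [Finset.sum_congr rfl (fun c _ => if_congr (mul_eq_zero.trans
    (or_iff_right (sub_ne_zero.mpr (diag_ne h10 hsq)))) rfl rfl), Finset.sum_ite_eq' Finset.univ]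
  simp

omit [DecidableEq F] in
theorem ne_zero_of_no_eigvec {g : SL2} (h : ∀ (c : F) (v : Fin 2 → F), v ≠ 0 → (sm g).mulVec v ≠ c • v) :
    sm g 1 0 ≠ 0 := fun h10 => h (sm g 0 0) ![1, 0] (by simp) (by
  ext i; fin_cases i <;> simp [sm, Matrix.mulVec, dotProduct, Fin.sum_univ_two] at h10 ⊢
  exact h10)

theorem psS_elliptic (α : MulChar F ℂ) {g : SL2}
    (h : ∀ (c : F) (v : Fin 2 → F), v ≠ 0 → (sm g).mulVec v ≠ c • v) : psS α g = 0 := by
  rw [psS_apply, if_neg (ne_zero_of_no_eigvec h), zero_add]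
  refine Finset.sum_eq_zero fun c _ => if_neg fun hc => h (sm g 1 0 * c + sm g 1 1) ![c, 1] (by simp) ?_
  ext i; fin_cases i <;> simp [sm, fixRoot, Matrix.mulVec, dotProduct, Fin.sum_univ_two] at hc ⊢
  linear_combination hc

/-- No fixed vectors of the upper unitriangular group. -/
def IsCuspS (χ : SL2 → ℂ) : Prop := ∑ b : F, χ (uS b) = 0

theorem sum_classInner_psS (χ : Cfsg.IrrCharacter SL2) :
    ∑ α : MulChar F ℂ, Cfsg.classInner (psS α) (χ : SL2 → ℂ) =
      (Fintype.card F : ℂ)⁻¹ * conj (∑ b : F, (χ : SL2 → ℂ) (uS b)) := by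
  classical
  simp only [psS, CharInd.classInner_indFun_left _ _ (CharCore.irr_isClassFunction χ)]
  unfold Cfsg.classInner
  simp only [← Finset.mul_sum, card_BS]
  simp only [← coordS.sum_comp, Fintype.sum_prod_type (α₂ := F)]
  have hth : ∀ (α : MulChar F ℂ) (a : Fˣ) (b : F), thS α (coordS (a, b)) = α (a : F) := fun α a b => by
    have e : sm ((coordS (a, b) : BS (F := F)) : SL2) = !![(a : F), b; 0, (a : F)⁻¹] := rfl
    simp only [sm] at e
    simp [thS, e]
  simp only [hth]
  rw [Finset.sum_comm, Finset.sum_eq_single 1]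
  · have e : ∀ b : F, ((coordS (1, b) : BS (F := F)) : SL2) = uS b := fun b => Subtype.ext (by
      show sm ((coordS ((1 : Fˣ), b) : BS (F := F)) : SL2) = !![1, b; 0, 1]
      rw [show sm ((coordS ((1 : Fˣ), b) : BS (F := F)) : SL2) = !![((1 : Fˣ) : F), b; 0, ((1 : Fˣ) : F)⁻¹] from rfl]
      simp)
    simp only [Units.val_one, map_one, one_mul, e, Finset.sum_const, Finset.card_univ, nsmul_eq_mul]
    have hc : (Fintype.card (MulChar F ℂ) : ℂ) = (Fintype.card F : ℂ) - 1 := by
      have := sum_mulChar (F := F) 1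
      simpa using this
    rw [hc, map_sum]
    push_cast [Nat.cast_sub (show 1 ≤ Fintype.card F from Fintype.card_pos)]
    have hq1 : (Fintype.card F : ℂ) - 1 ≠ 0 :=
      sub_ne_zero.mpr (by exact_mod_cast (Fintype.one_lt_card (α := F)).ne')
    field_simp
  · intro a _ ha
    simp only [← Finset.mul_sum, ← Finset.sum_mul]
    simp [sum_mulChar a, ha]
  · intro h; exact absurd (Finset.mem_univ _) h

theorem eq_of_inner_ne {f : SL2 → ℂ} (hf : Cfsg.IsIrrCharacter SL2 f) (χ : Cfsg.IrrCharacter SL2)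
    (h : Cfsg.classInner f (χ : SL2 → ℂ) ≠ 0) : (χ : SL2 → ℂ) = f := by
  by_contra hne'
  exact h (CharCore.classInner_irr_of_ne (χ := ⟨f, hf⟩) (fun e => hne' (congrArg Subtype.val e).symm))

/-- The classification. -/
theorem cases_SL (χ : Cfsg.IrrCharacter SL2) :
    IsCuspS (χ : SL2 → ℂ) ∨ (χ : SL2 → ℂ) = trivS ∨ (χ : SL2 → ℂ) = stS ∨
      (∃ α : MulChar F ℂ, α ^ 2 ≠ 1 ∧ (χ : SL2 → ℂ) = psS α) ∨
      (∃ α : MulChar F ℂ, α ^ 2 = 1 ∧ α ≠ 1 ∧ Cfsg.classInner (psS α) (χ : SL2 → ℂ) ≠ 0) := by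
  classical
  by_cases hc : IsCuspS (χ : SL2 → ℂ)
  · exact Or.inl hc
  refine Or.inr ?_
  obtain ⟨α, hne⟩ : ∃ α, Cfsg.classInner (psS α) (χ : SL2 → ℂ) ≠ 0 := by
    by_contra hcon
    push Not at hcon
    have h := sum_classInner_psS χ
    simp only [hcon, Finset.sum_const_zero] at h
    exact hc (by simpa [IsCuspS, Fintype.card_ne_zero, ← map_sum] using h.symm)
  by_cases h1 : α = 1
  · subst h1
    rw [show psS (1 : MulChar F ℂ) = trivS + stS by rw [stS]; abel, CharCore.classInner_add_left] at hne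
    by_cases h : Cfsg.classInner trivS (χ : SL2 → ℂ) = 0
    · rw [h, zero_add] at hne
      exact Or.inr (Or.inl (eq_of_inner_ne isIrr_stS χ hne))
    · exact Or.inl (eq_of_inner_ne CharCore.isIrrCharacter_one χ h)
  by_cases h2 : α ^ 2 = 1
  · exact Or.inr (Or.inr (Or.inr ⟨α, h2, h1, hne⟩))
  · exact Or.inr (Or.inr (Or.inl ⟨α, h2, eq_of_inner_ne ((isIrrCharacter_psS_iff α).mpr h2) χ hne⟩))

theorem card_mulCharC : Fintype.card (MulChar F ℂ) = Fintype.card F - 1 := by
  rw [← Nat.card_eq_fintype_card, MulChar.card_eq_card_units_of_hasEnoughRootsOfUnity, Nat.card_units,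
    Nat.card_eq_fintype_card]

theorem psS_eq_iff {α β : MulChar F ℂ} : psS α = psS β ↔ (β = α ∨ β = α⁻¹) := by
  classical
  constructor
  · intro h
    by_contra hc
    rw [not_or] at hc
    have h1 := classInner_psS α β
    rw [if_neg (fun e => hc.1 e.symm), if_neg (fun e => hc.2 (by rw [e, inv_inv])), ← h, classInner_psS,
      add_zero] at h1
    split_ifs at h1 <;> norm_num at h1 <;> simp_all
  · rintro (rfl | rfl)
    · rfl
    · exact (psS_inv α).symm

/-- The irreducible characters `psS α`. -/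
noncomputable def psSetS : Finset (Cfsg.IrrCharacter SL2) :=
  open Classical in Finset.univ.filter fun χ => ∃ α : MulChar F ℂ, α ^ 2 ≠ 1 ∧ (χ : SL2 → ℂ) = psS α

noncomputable def cuspSetS : Finset (Cfsg.IrrCharacter SL2) :=
  open Classical in Finset.univ.filter fun χ => IsCuspS (χ : SL2 → ℂ)

theorem card_psSetS :
    (psSetS (F := F)).card * 2 + Nat.card {α : MulChar F ℂ // α ^ 2 = 1} = Fintype.card F - 1 := by
  classical
  rw [← card_mulCharC, Nat.card_eq_fintype_card, Fintype.card_subtype]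
  have h := Finset.card_eq_sum_card_fiberwise
    (f := fun α : MulChar F ℂ => psS α)
    (s := Finset.univ.filter fun α : MulChar F ℂ => ¬ α ^ 2 = 1)
    (t := (psSetS (F := F)).image fun χ : Cfsg.IrrCharacter SL2 => (χ : SL2 → ℂ)) (fun α hα => by
      refine Finset.mem_image.mpr ⟨⟨_, (isIrrCharacter_psS_iff α).mpr (Finset.mem_filter.mp hα).2⟩, ?_, rfl⟩
      exact Finset.mem_filter.mpr ⟨Finset.mem_univ _, α, (Finset.mem_filter.mp hα).2, rfl⟩)
  rw [Finset.sum_const_nat (m := 2), Finset.card_image_of_injective _ Subtype.val_injective] at h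
  · rw [← h, add_comm, Finset.card_filter_add_card_filter_not, Finset.card_univ]
  · intro f hf
    obtain ⟨χ, hχ, rfl⟩ := Finset.mem_image.mp hf
    obtain ⟨α, hα, e⟩ := (Finset.mem_filter.mp hχ).2
    rw [Finset.card_eq_two]
    refine ⟨α, α⁻¹, (mulChar_sq_ne_one_iff α).mp hα, ?_⟩
    ext β
    simp only [Finset.mem_filter, Finset.mem_univ, true_and, Finset.mem_insert, Finset.mem_singleton, e]
    rw [eq_comm (a := psS β), psS_eq_iff]
    constructor
    · exact fun h => h.2
    · intro h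
      refine ⟨?_, h⟩
      rcases h with rfl | rfl
      · exact hα
      · rwa [inv_pow, inv_eq_one]

theorem card_irr_degS {d : ℂ} (s : Finset (Cfsg.IrrCharacter SL2))
    (h : ∀ χ : Cfsg.IrrCharacter SL2, (χ : SL2 → ℂ) 1 = d ↔ χ ∈ s) :
    Nat.card {χ : Cfsg.IrrCharacter SL2 // (χ : SL2 → ℂ) 1 = d} = s.card := by
  rw [← Nat.card_eq_finsetCard]
  exact Nat.card_congr (Equiv.subtypeEquivRight h)

theorem cuspS_diag {χ : Cfsg.IrrCharacter SL2} (h : IsCuspS (χ : SL2 → ℂ)) {g : SL2} (h01 : sm g 0 1 = 0)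
    (h10 : sm g 1 0 = 0) (hsq : sm g 0 0 ^ 2 ≠ 1) : (χ : SL2 → ℂ) g = 0 := by
  have hne := diag_ne h10 hsq
  have hs := sum_mul_eq_zero (CharCore.irr_isCharacter χ) uS uS_add h g
  have hconj : ∀ x : F, (χ : SL2 → ℂ) (g * uS x) = (χ : SL2 → ℂ) g := by
    intro x
    have hgx : sm (g * uS x) = !![sm g 0 0, sm g 0 0 * x; 0, sm g 1 1] := by
      simp only [sm, Matrix.SpecialLinearGroup.coe_mul] at h01 h10 ⊢
      ext i j
      fin_cases i <;> fin_cases j <;> simp [uS, Matrix.mul_apply, Fin.sum_univ_two, h01, h10]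
    refine eq_of_isConj (CharCore.irr_isCharacter χ) (sl_isConj (Or.inr (Or.inr (by rw [hgx]; simpa using hne)))
      (Or.inr (Or.inr hne)) (by rw [hgx]; simp [Matrix.trace_fin_two]) ?_)
    rw [hgx]
    intro c
    -- the form splits over the field
    have hl : sm g 0 0 * sm g 1 1 = 1 := by
      have hd : (sm g).det = 1 := g.2
      rwa [Matrix.det_fin_two, h10, mul_zero, sub_zero] at hd
    have hn : sm g 0 0 - sm g 1 1 ≠ 0 := sub_ne_zero.mpr hne
    set y := (1 - c) / (sm g 0 0 - sm g 1 1) with hy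
    refine ⟨1 - y * sm g 0 0, y, ?_⟩
    have : y * (sm g 0 0 - sm g 1 1) = 1 - c := div_mul_cancel₀ _ hn
    simp [nrm, Matrix.trace_fin_two]
    linear_combination -this - y ^ 2 * hl
  rw [Finset.sum_congr rfl (fun x _ => hconj x), Finset.sum_const, Finset.card_univ, nsmul_eq_mul] at hs
  exact (mul_eq_zero.mp hs).resolve_left (Nat.cast_ne_zero.mpr Fintype.card_ne_zero)

end Cfsg.Agent.Char2x2
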