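import Cfsg.Agent.Char2x2.SLOddBase

set_option autoImplicit false

/-! The irreducible characters of `SL₂(q)`, `q` odd. -/

namespace Cfsg.Agent.Char2x2

open Matrix
open scoped ComplexConjugate

variable {F : Type*} [Field F] [Fintype F] [DecidableEq F]

local notation "SL2" => Matrix.SpecialLinearGroup (Fin 2) F

omit [Fintype F] [DecidableEq F] in
theorem sm_lower (x : F) : sm (wS (some 0) * uS (-x) * (wS (some (0 : F)))⁻¹) = !![1, 0; x, 1] := by
  simp only [sm, Matrix.SpecialLinearGroup.coe_mul, Matrix.SpecialLinearGroup.coe_inv]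
  rw [show ((wS (some 0) : SL2) : Matrix (Fin 2) (Fin 2) F) = !![0, -1; 1, 0] from rfl,
    Matrix.adjugate_fin_two, show ((uS (-x) : SL2) : Matrix (Fin 2) (Fin 2) F) = !![1, -x; 0, 1] from rfl]
  ext i j
  fin_cases i <;> fin_cases j <;> simp [Matrix.mul_apply, Fin.sum_univ_two]

theorem no_linear_half {ε : F} (hε : ¬ IsSquare ε) (f : SL2 →* ℂˣ)
    (h : Cfsg.classInner (psS (etaC : MulChar F ℂ)) (fun g => (f g : ℂ)) ≠ 0) : False := by
  classical
  rw [psS, CharInd.classInner_indFun_left _ _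
    (CharCore.IsCharacter.isClassFunction (CharCore.IsIrrCharacter.isCharacter (CharCore.isIrrCharacter_hom f)))] at h
  have heq : (fun b : BS (F := F) => (f (b : SL2) : ℂ)) = thS etaC := by
    by_contra hne
    apply h
    exact CharCore.classInner_irr_of_ne
      (χ := ⟨thS etaC, CharCore.isIrrCharacter_hom (homS (etaC : MulChar F ℂ)).toHomUnits⟩)
      (ψ := ⟨fun b : BS (F := F) => (f (b : SL2) : ℂ),
        CharCore.isIrrCharacter_hom (f.comp (BS (F := F)).subtype)⟩)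
      (fun e => hne (congrArg Subtype.val e).symm)
  have hu : ∀ b : F, f (uS b) = 1 := fun b => by
    have := congrFun heq ⟨uS b, mem_BS.mpr (by simp [sm_uS])⟩
    simp only [thS] at this
    rw [show ((uS b : SL2) : Matrix (Fin 2) (Fin 2) F) 0 0 = 1 from rfl, map_one] at this
    exact Units.ext this
  have hε0 := ne_zero_of_not_isSquare hε
  have hd := congrFun heq (coordS (Units.mk0 ε hε0, 0))
  have e : sm ((coordS (Units.mk0 ε hε0, (0 : F)) : BS (F := F)) : SL2) = !![ε, 0; 0, ε⁻¹] := rfl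
  have e2 : ((coordS (Units.mk0 ε hε0, (0 : F)) : BS (F := F)) : SL2) =
      (uS ε * (wS (some 0) * uS (-(-ε⁻¹)) * (wS (some 0))⁻¹) * uS ε) *
        (uS (-1) * (wS (some 0) * uS (-1) * (wS (some 0))⁻¹) * uS (-1)) := by
    apply Subtype.ext
    show sm _ = sm (uS ε) * sm (wS (some 0) * uS (-(-ε⁻¹)) * (wS (some 0))⁻¹) * sm (uS ε) *
      (sm (uS (-1)) * sm (wS (some 0) * uS (-1) * (wS (some (0 : F)))⁻¹) * sm (uS (-1)))
    rw [e, sm_lower, sm_lower, sm_uS, sm_uS]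
    ext i j
    fin_cases i <;> fin_cases j <;> simp [Matrix.mul_apply, Fin.sum_univ_two, hε0]
  simp only [thS] at hd
  rw [show ((((coordS (Units.mk0 ε hε0, (0 : F)) : BS (F := F)) : SL2)) : Matrix (Fin 2) (Fin 2) F) 0 0 = ε
    from rfl, etaC_of_not_isSquare hε, e2] at hd
  simp [hu] at hd
  norm_num at hd

theorem mem_pairSetS_iff {ε : F} (hε : ¬ IsSquare ε) {χ : Cfsg.IrrCharacter SL2} :
    χ ∈ pairSetS ↔ Cfsg.classInner (psS (etaC : MulChar F ℂ)) (χ : SL2 → ℂ) ≠ 0 := by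
  rw [mem_pairSetS]
  constructor
  · rintro ⟨α, h2, h1, h⟩
    rwa [← eq_etaC h2 h1]
  · exact fun h => ⟨_, etaC_sq_one, etaC_ne_one hε, h⟩

theorem pair_split {ε : F} (hε : ¬ IsSquare ε) :
    ∃ a b : Cfsg.IrrCharacter SL2, a ≠ b ∧ psS (etaC : MulChar F ℂ) = (a : SL2 → ℂ) + (b : SL2 → ℂ) ∧
      pairSetS (F := F) = {a, b} := by
  classical
  obtain ⟨a, b, hab, h⟩ := exists_add_of_norm_two (isCharacter_psS (etaC : MulChar F ℂ)) (by
    rw [classInner_psS, if_pos rfl, if_pos (eq_inv_iff_mul_eq_one.mpr ((sq _).symm.trans etaC_sq_one))]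
    norm_num)
  refine ⟨a, b, hab, h, ?_⟩
  ext χ
  rw [mem_pairSetS_iff hε, h, CharCore.classInner_add_left, CharCore.classInner_irr, CharCore.classInner_irr,
    Finset.mem_insert, Finset.mem_singleton]
  constructor
  · intro h0
    by_contra hc
    rw [not_or] at hc
    exact h0 (by rw [if_neg (Ne.symm hc.1), if_neg (Ne.symm hc.2), add_zero])
  · rintro (rfl | rfl)
    · rw [if_pos rfl, if_neg hab.symm]; norm_num
    · rw [if_neg hab, if_pos rfl]; norm_num

theorem card_pairSetS {ε : F} (hε : ¬ IsSquare ε) : (pairSetS (F := F)).card = 2 := by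
  classical
  obtain ⟨a, b, hab, -, h⟩ := pair_split hε
  rw [h, Finset.card_pair hab]

theorem sum_pairSetS {ε : F} (hε : ¬ IsSquare ε) (g : SL2) :
    ∑ χ ∈ pairSetS (F := F), (χ : SL2 → ℂ) g = psS (etaC : MulChar F ℂ) g := by
  classical
  obtain ⟨a, b, hab, h, hs⟩ := pair_split hε
  rw [hs, Finset.sum_pair hab, h, Pi.add_apply]

theorem pair_data {ε : F} (hε : ¬ IsSquare ε) :
    ∀ χ ∈ pairSetS (F := F), 2 * (χ : SL2 → ℂ) 1 = (Fintype.card F : ℂ) + 1 ∧
      (χ : SL2 → ℂ) (uS 1) + (χ : SL2 → ℂ) (uS ε) = 1 ∧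
      ((χ : SL2 → ℂ) (uS 1) - (χ : SL2 → ℂ) (uS ε)) ^ 2 = etaC (-1 : F) * (Fintype.card F : ℂ) := by
  classical
  choose k0 m m' hk hd hs hδ using fun χ : Cfsg.IrrCharacter SL2 => orbit_data (CharCore.irr_isCharacter χ) hε
  obtain ⟨a, b, hab, h, hset⟩ := pair_split hε
  have hne : ∀ χ ∈ pairSetS (F := F), k0 χ ≠ 0 := fun χ hχ h0 => by
    refine not_cusp_of_inner χ ((mem_pairSetS_iff hε).mp hχ) ?_
    show ∑ b : F, (χ : SL2 → ℂ) (uS b) = 0
    rw [hk, h0, Nat.cast_zero, mul_zero]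
  have hq : (Fintype.card F : ℂ) ≠ 0 := Nat.cast_ne_zero.mpr Fintype.card_ne_zero
  have hq1 : (Fintype.card F : ℂ) - 1 ≠ 0 :=
    sub_ne_zero.mpr (by exact_mod_cast (Fintype.one_lt_card (α := F)).ne')
  have hsum : (k0 a : ℂ) + k0 b = 2 := by
    have e : ∑ x : F, psS (etaC : MulChar F ℂ) (uS x) = 2 * (Fintype.card F : ℂ) := by
      rw [← Finset.add_sum_erase _ _ (Finset.mem_univ (0 : F)), uS_zero, psS_one_apply,
        Finset.sum_congr rfl (fun x hx => psS_uS _ (Finset.ne_of_mem_erase hx)), Finset.sum_const,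
        Finset.card_erase_of_mem (Finset.mem_univ _), Finset.card_univ, nsmul_eq_mul,
        Nat.cast_sub Fintype.card_pos, Nat.cast_one]
      ring
    rw [h] at e
    simp only [Pi.add_apply, Finset.sum_add_distrib, hk] at e
    apply mul_left_cancel₀ hq
    linear_combination e
  have hsum' : k0 a + k0 b = 2 := by exact_mod_cast hsum
  have ha : a ∈ pairSetS (F := F) := by rw [hset]; simp
  have hb : b ∈ pairSetS (F := F) := by rw [hset]; simp
  have ka : k0 a = 1 := by have := hne a ha; have := hne b hb; omega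
  have kb : k0 b = 1 := by omega
  have hdeg : ((m a + m' a : ℕ) : ℂ) + ((m b + m' b : ℕ) : ℂ) = 2 := by
    have e := psS_one_apply (etaC : MulChar F ℂ)
    rw [h, Pi.add_apply] at e
    apply mul_left_cancel₀ hq1
    push_cast
    have da := hd a
    have db := hd b
    rw [ka, Nat.cast_one] at da
    rw [kb, Nat.cast_one] at db
    linear_combination 2 * e - da - db
  have hdeg' : (m a + m' a) + (m b + m' b) = 2 := by exact_mod_cast hdeg
  have hlin : ∀ χ ∈ pairSetS (F := F), k0 χ = 1 → m χ + m' χ ≠ 0 := by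
    intro χ hχ hk1 h0
    have d := hd χ
    rw [hk1, ← Nat.cast_add, h0] at d
    obtain ⟨f, hf⟩ := CharCore.IsCharacter.exists_hom_of_degree_one (CharCore.irr_isCharacter χ)
      (by push_cast at d; linear_combination (1 / 2 : ℂ) * d)
    exact no_linear_half hε f (hf ▸ (mem_pairSetS_iff hε).mp hχ)
  intro χ hχ
  have h1 : k0 χ = 1 ∧ m χ + m' χ = 1 := by
    have := hlin a ha ka
    have := hlin b hb kb
    rw [hset, Finset.mem_insert, Finset.mem_singleton] at hχ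
    rcases hχ with rfl | rfl
    · exact ⟨ka, by omega⟩
    · exact ⟨kb, by omega⟩
  have hm : (m χ : ℂ) + m' χ = 1 := by exact_mod_cast h1.2
  have hE : ((m χ : ℂ) - m' χ) ^ 2 = 1 := by
    rcases (show (m χ = 1 ∧ m' χ = 0) ∨ (m χ = 0 ∧ m' χ = 1) by omega) with ⟨e, e'⟩ | ⟨e, e'⟩ <;> simp [e, e']
  have d := hd χ
  rw [h1.1, hm] at d
  have s := hs χ
  rw [h1.1, hm] at s
  exact ⟨by push_cast at d; linear_combination d, by push_cast at s; linear_combination s, by rw [hδ χ, hE, mul_one]⟩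

theorem cusp_data (hodd : Odd (Fintype.card F)) {ε : F} (hε : ¬ IsSquare ε) :
    (psSetS (F := F)).card = (Fintype.card F - 3) / 2 ∧
    (cuspSetS (F := F)).card = (Fintype.card F + 3) / 2 ∧
    ∃ half : Finset (Cfsg.IrrCharacter SL2), half ⊆ cuspSetS ∧ half.card = 2 ∧
      (∀ χ ∈ half, 2 * (χ : SL2 → ℂ) 1 = (Fintype.card F : ℂ) - 1 ∧
        (χ : SL2 → ℂ) (uS 1) + (χ : SL2 → ℂ) (uS ε) = -1 ∧
        ((χ : SL2 → ℂ) (uS 1) - (χ : SL2 → ℂ) (uS ε)) ^ 2 = etaC (-1 : F) * (Fintype.card F : ℂ)) ∧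
      (∀ χ ∈ cuspSetS, χ ∉ half → (χ : SL2 → ℂ) 1 = (Fintype.card F : ℂ) - 1 ∧
        (χ : SL2 → ℂ) (uS 1) = -1 ∧ (χ : SL2 → ℂ) (uS ε) = -1) := by
  classical
  choose k0 m m' hk hd hs hδ using fun χ : Cfsg.IrrCharacter SL2 => orbit_data (CharCore.irr_isCharacter χ) hε
  have hq : (Fintype.card F : ℂ) ≠ 0 := Nat.cast_ne_zero.mpr Fintype.card_ne_zero
  have hq1 : (Fintype.card F : ℂ) - 1 ≠ 0 :=
    sub_ne_zero.mpr (by exact_mod_cast (Fintype.one_lt_card (α := F)).ne')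
  have hps := card_psSetS (F := F)
  rw [card_sq_one_mulChar hε] at hps
  have hN := card_split (F := F)
  rw [CharCore.card_irr, sl_card_classes_odd hodd, card_pairSetS hε] at hN
  obtain ⟨j, hj⟩ := id hodd
  have hj1 : 2 ≤ Fintype.card F := Fintype.one_lt_card
  have hP : (psSetS (F := F)).card + 1 = j := by omega
  have hC : (cuspSetS (F := F)).card = j + 2 := by omega
  refine ⟨by omega, by omega, ?_⟩
  set K : Cfsg.IrrCharacter SL2 → ℕ := fun χ => m χ + m' χ with hK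
  set E : Cfsg.IrrCharacter SL2 → ℤ := fun χ => (m χ : ℤ) - (m' χ : ℤ) with hE
  have hdc : ∀ χ ∈ cuspSetS (F := F), k0 χ = 0 := fun χ hχ => by
    have h := mem_cuspSetS.mp hχ
    rw [IsCuspS, hk] at h
    simpa [hq] using h
  have hd' : ∀ χ ∈ cuspSetS (F := F), 2 * (χ : SL2 → ℂ) 1 = ((Fintype.card F : ℂ) - 1) * K χ := fun χ hχ => by
    rw [hd, hdc χ hχ]; simp [hK]
  have hKne : ∀ χ ∈ cuspSetS (F := F), K χ ≠ 0 := fun χ hχ h0 => by
    have := hd' χ hχ
    rw [h0, Nat.cast_zero, mul_zero] at this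
    exact CharCore.irr_apply_one_ne_zero χ (by linear_combination (1 / 2 : ℂ) * this)
  -- the sum of the squares of the degrees
  have hKsq : ∑ χ ∈ cuspSetS (F := F), ((K χ : ℂ)) ^ 2 = 2 * (Fintype.card F : ℂ) := by
    have hS := degree_sq_split (F := F)
    rw [LinearGroup.card_SL_two, Nat.card_eq_fintype_card,
      Finset.sum_congr (s₁ := pairSetS) rfl (fun χ h => show (χ : SL2 → ℂ) 1 ^ 2 =
        ((Fintype.card F : ℂ) + 1) ^ 2 / 4 by
          linear_combination ((2 * (χ : SL2 → ℂ) 1 + (Fintype.card F : ℂ) + 1) / 4) * (pair_data hε χ h).1),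
      Finset.sum_congr (s₁ := cuspSetS) rfl (fun χ h => show (χ : SL2 → ℂ) 1 ^ 2 =
        ((Fintype.card F : ℂ) - 1) ^ 2 / 4 * (K χ : ℂ) ^ 2 by
          linear_combination ((2 * (χ : SL2 → ℂ) 1 + ((Fintype.card F : ℂ) - 1) * K χ) / 4) * hd' χ h),
      Finset.sum_const, card_pairSetS hε, ← Finset.mul_sum, nsmul_eq_mul] at hS
    have hP' : ((psSetS (F := F)).card : ℂ) * 2 = (Fintype.card F : ℂ) - 3 := by
      have h2 : (psSetS (F := F)).card * 2 + 3 = Fintype.card F := by omega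
      rw [← h2]; push_cast; ring
    push_cast [Nat.cast_sub (show 1 ≤ Fintype.card F ^ 2 from Nat.one_le_pow _ _ (by omega))] at hS
    apply mul_left_cancel₀ (pow_ne_zero 2 hq1)
    linear_combination (-4 : ℂ) * hS - 2 * ((Fintype.card F : ℂ) + 1) ^ 2 * hP'
  -- column orthogonality
  have hδ' : ∀ χ : Cfsg.IrrCharacter SL2, ((χ : SL2 → ℂ) (uS 1) - (χ : SL2 → ℂ) (uS ε)) *
      conj ((χ : SL2 → ℂ) (uS 1) - (χ : SL2 → ℂ) (uS ε)) = (Fintype.card F : ℂ) * ((E χ : ℤ) : ℂ) ^ 2 := fun χ =>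
    mul_conj_of_sq (etaC_neg_one_sq (F := F)) (by rw [hδ]; simp [hE])
  have hEsq : ∑ χ ∈ cuspSetS (F := F), ((E χ : ℂ)) ^ 2 = 2 := by
    have hS := sum_delta_mul_conj hodd hε
    rw [sum_split, Finset.sum_eq_zero (s := psSetS) (fun χ h => by
      obtain ⟨α, -, e⟩ := mem_psSetS.mp h
      rw [e, psS_uS _ one_ne_zero, psS_uS _ (ne_zero_of_not_isSquare hε)]
      simp), Finset.sum_congr (s₁ := pairSetS) rfl (fun χ h => show _ = (Fintype.card F : ℂ) by
        rw [mul_conj_of_sq (n := Fintype.card F) (e := 1) (etaC_neg_one_sq (F := F)) (by rw [(pair_data hε χ h).2.2]; simp)]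
        simp), Finset.sum_congr (s₁ := cuspSetS) rfl (fun χ _ => hδ' χ), Finset.sum_const,
      card_pairSetS hε, ← Finset.mul_sum] at hS
    simp [trivIrr, stIrr, stS_uS one_ne_zero, stS_uS (ne_zero_of_not_isSquare hε)] at hS
    apply mul_left_cancel₀ hq
    linear_combination hS
  have hKsq' : ∑ χ ∈ cuspSetS (F := F), (K χ : ℤ) ^ 2 = 2 * (Fintype.card F : ℤ) := by exact_mod_cast hKsq
  have hEsq' : ∑ χ ∈ cuspSetS (F := F), E χ ^ 2 = 2 := by exact_mod_cast hEsq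
  have hpt : ∀ χ ∈ cuspSetS (F := F), 4 - 3 * E χ ^ 2 ≤ (K χ : ℤ) ^ 2 := by
    intro χ hχ
    have h0 : 1 ≤ (K χ : ℤ) := by exact_mod_cast Nat.one_le_iff_ne_zero.mpr (hKne χ hχ)
    by_cases hE0 : E χ = 0
    · have : 2 ≤ (K χ : ℤ) := by simp only [hK, hE] at h0 hE0 ⊢; push_cast at h0 ⊢; omega
      rw [hE0]; nlinarith
    · have : 1 ≤ E χ ^ 2 := by
        have := sq_pos_of_ne_zero hE0
        omega
      nlinarith
  have heq : ∑ χ ∈ cuspSetS (F := F), (4 - 3 * E χ ^ 2) = ∑ χ ∈ cuspSetS (F := F), (K χ : ℤ) ^ 2 := by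
    rw [hKsq', Finset.sum_sub_distrib, ← Finset.mul_sum, hEsq', Finset.sum_const, hC, hj]
    simp
    ring
  have hall := (Finset.sum_eq_sum_iff_of_le hpt).mp heq
  have hcases : ∀ χ ∈ cuspSetS (F := F), (K χ = 2 ∧ E χ ^ 2 = 0) ∨ (K χ = 1 ∧ E χ ^ 2 = 1) := by
    intro χ hχ
    have h := hall χ hχ
    have h0 : 1 ≤ (K χ : ℤ) := by exact_mod_cast Nat.one_le_iff_ne_zero.mpr (hKne χ hχ)
    have he : E χ ^ 2 ≤ 1 := by nlinarith
    rcases (show E χ ^ 2 = 0 ∨ E χ ^ 2 = 1 by have := sq_nonneg (E χ); omega) with e | e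
    · left
      refine ⟨?_, e⟩
      rw [e] at h
      have : (K χ : ℤ) = 2 := by nlinarith
      exact_mod_cast this
    · right
      refine ⟨?_, e⟩
      rw [e] at h
      have : (K χ : ℤ) = 1 := by nlinarith
      exact_mod_cast this
  refine ⟨(cuspSetS (F := F)).filter fun χ => K χ = 1, Finset.filter_subset _ _, ?_, ?_, ?_⟩
  · have : ∑ χ ∈ cuspSetS (F := F), E χ ^ 2 =
        ∑ χ ∈ cuspSetS (F := F), (if K χ = 1 then (1 : ℤ) else 0) := Finset.sum_congr rfl fun χ hχ => by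
      rcases hcases χ hχ with ⟨e, e'⟩ | ⟨e, e'⟩ <;> simp [e, e']
    rw [hEsq', Finset.sum_boole] at this
    exact_mod_cast this.symm
  · intro χ hχ
    obtain ⟨hc, h1⟩ := Finset.mem_filter.mp hχ
    have e' : E χ ^ 2 = 1 := by rcases hcases χ hc with ⟨e, -⟩ | ⟨-, e'⟩ <;> [omega; exact e']
    have e'' : ((m χ : ℂ) - m' χ) ^ 2 = 1 := by
      have := congrArg (fun z : ℤ => (z : ℂ)) e'
      simpa [hE] using this
    have hm : (m χ : ℂ) + m' χ = 1 := by exact_mod_cast h1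
    refine ⟨by rw [hd' χ hc, h1]; simp, by rw [hs, hdc χ hc, hm]; simp, by rw [hδ, e'', mul_one]⟩
  · intro χ hc hnot
    have h1 : K χ ≠ 1 := fun h => hnot (Finset.mem_filter.mpr ⟨hc, h⟩)
    obtain ⟨e, e'⟩ : K χ = 2 ∧ E χ ^ 2 = 0 := (hcases χ hc).resolve_right fun h => h1 h.1
    have e'' : ((m χ : ℂ) - m' χ) ^ 2 = 0 := by
      have := congrArg (fun z : ℤ => (z : ℂ)) e'
      simpa [hE] using this
    have hm : (m χ : ℂ) + m' χ = 2 := by exact_mod_cast e
    have hz : (χ : SL2 → ℂ) (uS 1) - (χ : SL2 → ℂ) (uS ε) = 0 := by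
      have := hδ χ
      rw [e'', mul_zero] at this
      exact eq_zero_of_pow_eq_zero this
    have hsum := hs χ
    rw [hdc χ hc, hm] at hsum
    push_cast at hsum
    have hd2 := hd' χ hc
    rw [e] at hd2
    push_cast at hd2
    exact ⟨by linear_combination (1 / 2 : ℂ) * hd2, by linear_combination (1 / 2 : ℂ) * hsum + (1 / 2 : ℂ) * hz,
      by linear_combination (1 / 2 : ℂ) * hsum - (1 / 2 : ℂ) * hz⟩

end Cfsg.Agent.Char2x2
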