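import Cfsg.Agent.Char2x2.SLSplit

set_option autoImplicit false

/-! `SL₂(q)`, `q` odd: the quadratic character, the two unipotent orbits, the diagonal automorphism. -/

namespace Cfsg.Agent.Char2x2

open Matrix
open scoped ComplexConjugate

variable {F : Type*} [Field F] [Fintype F] [DecidableEq F]

local notation "SL2" => Matrix.SpecialLinearGroup (Fin 2) F

/-- The quadratic character with complex values. -/
noncomputable def etaC : MulChar F ℂ := (quadraticChar F).ringHomComp (Int.castRingHom ℂ)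

theorem etaC_apply (a : F) : etaC a = ((quadraticChar F a : ℤ) : ℂ) := by simp [etaC]

theorem etaC_sq_one : (etaC : MulChar F ℂ) ^ 2 = 1 :=
  ((quadraticChar_isQuadratic F).comp _).sq_eq_one

theorem etaC_of_isSquare {a : F} (ha : a ≠ 0) (h : IsSquare a) : etaC a = 1 := by
  rw [etaC_apply, (quadraticChar_one_iff_isSquare ha).mpr h]; simp

theorem etaC_of_not_isSquare {a : F} (h : ¬ IsSquare a) : etaC a = -1 := by
  rw [etaC_apply, (quadraticChar_neg_one_iff_not_isSquare).mpr h]; simp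

omit [Fintype F] [DecidableEq F] in
theorem ne_zero_of_not_isSquare {ε : F} (hε : ¬ IsSquare ε) : ε ≠ 0 := fun h => hε (h ▸ IsSquare.zero)

theorem etaC_ne_one {ε : F} (hε : ¬ IsSquare ε) : (etaC : MulChar F ℂ) ≠ 1 := fun h => by
  have h1 := etaC_of_not_isSquare hε
  rw [h, MulChar.one_apply (isUnit_iff_ne_zero.mpr (ne_zero_of_not_isSquare hε))] at h1
  norm_num at h1

theorem isSquare_mul_of_not_isSquare {a b : F} (ha : ¬ IsSquare a) (hb : ¬ IsSquare b) : IsSquare (a * b) := by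
  have ha0 := ne_zero_of_not_isSquare ha
  have hb0 := ne_zero_of_not_isSquare hb
  rw [← quadraticChar_one_iff_isSquare (mul_ne_zero ha0 hb0), map_mul,
    quadraticChar_neg_one_iff_not_isSquare.mpr ha, quadraticChar_neg_one_iff_not_isSquare.mpr hb]
  norm_num

theorem eq_etaC {α : MulChar F ℂ} (h2 : α ^ 2 = 1) (h1 : α ≠ 1) : α = etaC := by
  have hsq : ∀ a : F, a ≠ 0 → IsSquare a → α a = 1 := by
    rintro a ha ⟨r, rfl⟩
    rw [map_mul, ← sq, ← MulChar.pow_apply' α two_ne_zero, h2,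
      MulChar.one_apply (isUnit_iff_ne_zero.mpr (left_ne_zero_of_mul ha))]
  ext a
  by_cases ha : IsSquare (a : F)
  · rw [hsq _ a.ne_zero ha, etaC_of_isSquare a.ne_zero ha]
  rw [etaC_of_not_isSquare ha]
  have hh : α (a : F) * α (a : F) = 1 := by
    rw [← map_mul]; exact hsq _ (mul_ne_zero a.ne_zero a.ne_zero) ⟨_, rfl⟩
  rcases mul_self_eq_one_iff.mp hh with e | e
  · refine absurd ?_ h1
    ext b
    rw [MulChar.one_apply b.isUnit]
    by_cases hb : IsSquare (b : F)
    · exact hsq _ b.ne_zero hb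
    · have := hsq _ (mul_ne_zero a.ne_zero b.ne_zero) (isSquare_mul_of_not_isSquare ha hb)
      rwa [map_mul, e, one_mul] at this
  · exact e

theorem card_sq_one_mulChar {ε : F} (hε : ¬ IsSquare ε) : Nat.card {α : MulChar F ℂ // α ^ 2 = 1} = 2 := by
  rw [Nat.card_eq_two_iff]
  refine ⟨⟨1, one_pow 2⟩, ⟨etaC, etaC_sq_one⟩, fun h => etaC_ne_one hε (congrArg Subtype.val h).symm, ?_⟩
  refine Set.eq_univ_of_forall fun α => ?_
  by_cases h : α.1 = 1
  · exact Or.inl (Subtype.ext h)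
  · exact Or.inr (Subtype.ext (eq_etaC α.2 h))

theorem etaC_neg_one (hodd : Odd (Fintype.card F)) :
    etaC (-1 : F) = (-1 : ℂ) ^ ((Fintype.card F - 1) / 2) := by
  rw [etaC_apply, quadraticChar_neg_one (ringChar_ne_two_of_odd hodd),
    ZMod.χ₄_eq_neg_one_pow (Nat.odd_iff.mp hodd)]
  obtain ⟨j, hj⟩ := hodd
  rw [hj, show (2 * j + 1) / 2 = j by omega, show (2 * j + 1 - 1) / 2 = j by omega]
  push_cast
  rfl

theorem etaC_neg_one_sq : (etaC (-1 : F)) ^ 2 = 1 := by
  rw [← MulChar.pow_apply' _ two_ne_zero, etaC_sq_one, MulChar.one_apply isUnit_one.neg]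

theorem apply_uS {χ : SL2 → ℂ} (hχ : Cfsg.IsCharacter SL2 χ) {ε : F} (hε : ¬ IsSquare ε) {b : F}
    (hb : b ≠ 0) : 2 * χ (uS b) = (χ (uS 1) + χ (uS ε)) + (χ (uS 1) - χ (uS ε)) * etaC b := by
  by_cases h : IsSquare b
  · rw [etaC_of_isSquare hb h, eq_of_isConj hχ (isConj_uS hb one_ne_zero (by rwa [mul_one]))]
    ring
  · rw [etaC_of_not_isSquare h, eq_of_isConj hχ (isConj_uS hb (ne_zero_of_not_isSquare hε)
      (isSquare_mul_of_not_isSquare h hε))]
    ring

/-- The restriction to the upper unitriangular group. -/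
theorem orbit_data {χ : SL2 → ℂ} (hχ : Cfsg.IsCharacter SL2 χ) {ε : F} (hε : ¬ IsSquare ε) :
    ∃ k0 m m' : ℕ, ∑ b : F, χ (uS b) = (Fintype.card F : ℂ) * k0 ∧
      2 * χ 1 = 2 * k0 + ((Fintype.card F : ℂ) - 1) * (m + m') ∧
      χ (uS 1) + χ (uS ε) = 2 * k0 - (m + m') ∧
      (χ (uS 1) - χ (uS ε)) ^ 2 = etaC (-1 : F) * (Fintype.card F : ℂ) * ((m : ℂ) - m') ^ 2 := by
  classical
  obtain ⟨p, hp⟩ := CharP.exists F
  haveI := hp
  obtain ⟨ψ, hψ⟩ : ∃ ψ : AddChar F ℂ, ψ ≠ 1 := by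
    obtain ⟨ψ, hψ⟩ := AddChar.exists_apply_ne_zero.mpr (one_ne_zero (α := F))
    exact ⟨ψ, fun h0 => hψ (by rw [h0]; rfl)⟩
  have hprim : ψ.IsPrimitive := AddChar.IsPrimitive.of_ne_one hψ
  have hq : (Fintype.card F : ℂ) ≠ 0 := Nat.cast_ne_zero.mpr Fintype.card_ne_zero
  set s := χ (uS 1) + χ (uS ε) with hs
  set δ := χ (uS 1) - χ (uS ε) with hδ
  have hpt : ∀ b : F, 2 * χ (uS b) = s + δ * etaC b + (if b = 0 then 2 * χ 1 - s else 0) := by
    intro b
    by_cases hb : b = 0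
    · subst hb
      rw [uS_zero, MulChar.map_zero, if_pos rfl]
      ring
    · rw [if_neg hb, add_zero, apply_uS hχ hε hb]
  have split : ∀ f : F → ℂ, 2 * ∑ b, χ (uS b) * f b =
      s * (∑ b, f b) + δ * (∑ b, etaC b * f b) + (2 * χ 1 - s) * f 0 := by
    intro f
    rw [Finset.mul_sum, Finset.mul_sum, Finset.mul_sum,
      show (2 * χ 1 - s) * f 0 = ∑ b, (if b = 0 then (2 * χ 1 - s) else 0) * f b by
        simp [ite_mul, Finset.sum_ite_eq'],
      ← Finset.sum_add_distrib, ← Finset.sum_add_distrib]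
    exact Finset.sum_congr rfl fun b _ => by linear_combination f b * hpt b
  have twist : ∀ φ : AddChar F ℂ, φ ≠ 1 → ∃ m : ℕ,
      δ * gaussSum etaC φ + (2 * χ 1 - s) = 2 * ((Fintype.card F : ℂ) * m) := by
    intro φ hφ
    obtain ⟨m, hm⟩ := exists_mult hχ uS uS_add φ⁻¹
    refine ⟨m, ?_⟩
    simp only [AddChar.inv_apply, AddChar.map_neg_eq_conj, RingHomCompTriple.comp_apply, Complex.conj_conj,
      RingHom.id_apply] at hm
    have h2 := split (fun b => φ b)
    rw [hm, AddChar.sum_eq_zero_iff_ne_zero.mpr hφ, AddChar.map_zero_eq_one] at h2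
    rw [gaussSum]
    linear_combination -h2
  obtain ⟨k0, hk0⟩ := exists_mult hχ uS uS_add (1 : AddChar F ℂ)
  simp only [AddChar.one_apply, map_one, mul_one] at hk0
  have hφ : AddChar.mulShift ψ ε ≠ 1 := hprim (ne_zero_of_not_isSquare hε)
  obtain ⟨m, hm⟩ := twist ψ hψ
  obtain ⟨m', hm'⟩ := twist _ hφ
  have hgs := gaussSum_mulShift etaC ψ (Units.mk0 ε (ne_zero_of_not_isSquare hε))
  simp only [Units.val_mk0, etaC_of_not_isSquare hε] at hgs
  have h3 : 2 * ∑ b : F, χ (uS b) = 2 * χ 1 + ((Fintype.card F : ℂ) - 1) * s := by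
    have h2 := split (fun _ => 1)
    simp only [mul_one, Finset.sum_const, Finset.card_univ, nsmul_eq_mul,
      MulChar.sum_eq_zero_of_ne_one (etaC_ne_one hε), mul_zero, add_zero] at h2
    linear_combination h2
  rw [hk0] at h3
  have hds : 2 * χ 1 - s = (Fintype.card F : ℂ) * (m + m') := by
    linear_combination (1 / 2 : ℂ) * hm + (1 / 2 : ℂ) * hm' + (δ / 2) * hgs
  have hdG : δ * gaussSum etaC ψ = (Fintype.card F : ℂ) * ((m : ℂ) - m') := by
    linear_combination (1 / 2 : ℂ) * hm - (1 / 2 : ℂ) * hm' - (δ / 2) * hgs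
  have hs2 : s = 2 * k0 - ((m : ℂ) + m') := by
    apply mul_left_cancel₀ hq
    linear_combination -h3 - hds
  refine ⟨k0, m, m', hk0, ?_, hs2, ?_⟩
  · linear_combination hds + hs2
  · have hG := gaussSum_sq (etaC_ne_one hε) ((quadraticChar_isQuadratic F).comp _) hprim
    change gaussSum (etaC : MulChar F ℂ) ψ ^ 2 = etaC (-1 : F) * (Fintype.card F : ℂ) at hG
    apply mul_left_cancel₀ hq
    linear_combination (etaC (-1 : F) * δ * gaussSum etaC ψ +
        etaC (-1 : F) * (Fintype.card F : ℂ) * ((m : ℂ) - m')) * hdG -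
      δ ^ 2 * etaC (-1 : F) * hG - δ ^ 2 * (Fintype.card F : ℂ) * (etaC_neg_one_sq (F := F))

theorem mul_conj_of_sq {δ c : ℂ} {n : ℕ} {e : ℤ} (hc : c ^ 2 = 1) (h : δ ^ 2 = c * (n : ℂ) * (e : ℂ) ^ 2) :
    δ * conj δ = (n : ℂ) * (e : ℂ) ^ 2 := by
  rw [Complex.mul_conj]
  have h1 := congrArg Complex.normSq h
  rw [map_pow, map_mul, map_mul, map_pow, Complex.normSq_natCast, Complex.normSq_intCast] at h1
  have h2 := congrArg Complex.normSq hc
  rw [map_pow, map_one] at h2
  have hc1 : Complex.normSq c = 1 := by nlinarith [Complex.normSq_nonneg c]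
  rw [hc1, one_mul] at h1
  have h3 : Complex.normSq δ = (n : ℝ) * (e : ℝ) ^ 2 :=
    (pow_left_inj₀ (Complex.normSq_nonneg δ) (by positivity) two_ne_zero).mp (by rw [h1]; ring)
  exact_mod_cast congrArg (Complex.ofReal) h3

theorem not_isConj_uS {ε : F} (hε : ¬ IsSquare ε) : ¬ IsConj (uS 1) (uS ε) := by
  intro h
  have key : ∀ (b : F) (hb : b ≠ 0), IsConj (uS b) (kmat 2 (-Units.mk0 b hb)) := fun b hb => by
    have := isConj_kmat (g := uS b) (a := 0) (b := 1) (δ := -Units.mk0 b hb) (by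
      rw [det_basisMat, sm_uS]; simp)
    rwa [trace_uS] at this
  have h2 := (isConj_kmat_two_iff _ _).mp (((key 1 one_ne_zero).symm.trans h).trans
    (key ε (ne_zero_of_not_isSquare hε)))
  exact hε (by simpa using h2)

theorem card_centralizer_uS (hodd : Odd (Fintype.card F)) {b : F} (hb : b ≠ 0) :
    Nat.card (Subgroup.centralizer ({uS b} : Set SL2)) = 2 * Fintype.card F := by
  rw [card_centralizer_unipotent (nonScalar_uS hb) (trace_uS b)]
  have := card_sq_eq hodd (one_ne_zero (α := F))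
  rw [one_pow] at this
  rw [this]

theorem sum_delta_mul_conj (hodd : Odd (Fintype.card F)) {ε : F} (hε : ¬ IsSquare ε) :
    ∑ χ : Cfsg.IrrCharacter SL2, ((χ : SL2 → ℂ) (uS 1) - (χ : SL2 → ℂ) (uS ε)) *
      conj ((χ : SL2 → ℂ) (uS 1) - (χ : SL2 → ℂ) (uS ε)) = 4 * (Fintype.card F : ℂ) := by
  classical
  simp only [map_sub, sub_mul, mul_sub, Finset.sum_sub_distrib, CharCore.sum_apply_mul_conj]
  rw [if_pos (IsConj.refl _), if_pos (IsConj.refl _), if_neg (not_isConj_uS hε),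
    if_neg (fun h => not_isConj_uS hε h.symm), card_centralizer_uS hodd one_ne_zero,
    card_centralizer_uS hodd (ne_zero_of_not_isSquare hε)]
  push_cast
  ring

/-- Conjugation by `diag (ε, 1)`. -/
def sigS (ε : Fˣ) : SL2 →* SL2 where
  toFun g := ⟨!![sm g 0 0, (ε : F) * sm g 0 1; sm g 1 0 * (ε : F)⁻¹, sm g 1 1], by
    have hd : (sm g).det = 1 := g.2
    rw [Matrix.det_fin_two] at hd
    have := ε.ne_zero
    rw [Matrix.det_fin_two]
    simp
    field_simp
    linear_combination hd⟩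
  map_one' := Subtype.ext (by simp [Matrix.one_fin_two])
  map_mul' g h := Subtype.ext (by
    have := ε.ne_zero
    show _ = (_ : Matrix (Fin 2) (Fin 2) F) * _
    ext i j
    fin_cases i <;> fin_cases j <;>
      simp [Matrix.mul_apply, Fin.sum_univ_two] <;> field_simp)

omit [Fintype F] [DecidableEq F] in
theorem sm_sigS (ε : Fˣ) (g : SL2) :
    sm (sigS ε g) = !![sm g 0 0, (ε : F) * sm g 0 1; sm g 1 0 * (ε : F)⁻¹, sm g 1 1] := rfl

omit [Fintype F] [DecidableEq F] in
theorem sigS_surjective (ε : Fˣ) : Function.Surjective (sigS ε) := fun g => ⟨sigS ε⁻¹ g, by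
  apply Subtype.ext
  show sm (sigS ε (sigS ε⁻¹ g)) = sm g
  rw [sm_sigS, sm_sigS]
  have := ε.ne_zero
  ext i j
  fin_cases i <;> fin_cases j <;> simp⟩

omit [Fintype F] [DecidableEq F] in
theorem sigS_uS (ε : Fˣ) (b : F) : sigS ε (uS b) = uS ((ε : F) * b) := by
  apply Subtype.ext
  show sm (sigS ε (uS b)) = sm (uS ((ε : F) * b))
  rw [sm_sigS, sm_uS, sm_uS]
  simp

omit [Fintype F] [DecidableEq F] in
theorem toGL_sigS (ε : Fˣ) (g : SL2) :
    Matrix.SpecialLinearGroup.toGL (sigS ε g) =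
      Matrix.GeneralLinearGroup.mk'' !![(ε : F), 0; 0, 1] (by simp [Matrix.det_fin_two]) *
        Matrix.SpecialLinearGroup.toGL g *
      (Matrix.GeneralLinearGroup.mk'' !![(ε : F), 0; 0, 1] (by simp [Matrix.det_fin_two]))⁻¹ := by
  rw [eq_mul_inv_iff_mul_eq]
  apply Units.ext
  show sm (sigS ε g) * !![(ε : F), 0; 0, 1] = !![(ε : F), 0; 0, 1] * sm g
  rw [sm_sigS]
  have := ε.ne_zero
  ext i j
  fin_cases i <;> fin_cases j <;> simp [Matrix.mul_apply, Fin.sum_univ_two, mul_comm]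

theorem psS_sigS (α : MulChar F ℂ) (ε : Fˣ) (g : SL2) : psS α (sigS ε g) = psS α g := by
  rw [psS_apply, psS_apply, sm_sigS]
  have he := ε.ne_zero
  congr 1
  · simp
  · rw [← Equiv.sum_comp (Equiv.mulLeft₀ (ε : F) he)]
    refine Finset.sum_congr rfl fun c _ => if_congr ?_ ?_ rfl
    · simp [fixRoot]
      constructor
      · intro h
        apply mul_left_cancel₀ he
        field_simp at h
        linear_combination h
      · intro h
        field_simp
        linear_combination (ε : F) * h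
    · simp
      congr 1
      field_simp

end Cfsg.Agent.Char2x2
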