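import Cfsg.Agent.Char2x2.SL

set_option autoImplicit false

/-! The irreducible characters of `SL₂(q)` fall into five families. -/

namespace Cfsg.Agent.Char2x2

open Matrix
open scoped ComplexConjugate

theorem classInner_ne_zero_of_common {G : Type*} [Group G] [Fintype G] {a b : G → ℂ}
    (ha : Cfsg.IsCharacter G a) (hb : Cfsg.IsCharacter G b) (χ : Cfsg.IrrCharacter G)
    (h1 : Cfsg.classInner a (χ : G → ℂ) ≠ 0) (h2 : Cfsg.classInner b (χ : G → ℂ) ≠ 0) :
    Cfsg.classInner a b ≠ 0 := by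
  classical
  obtain ⟨m, hm⟩ := CharCore.IsCharacter.exists_sum ha
  obtain ⟨n, hn⟩ := CharCore.IsCharacter.exists_sum hb
  rw [hm, CharCore.classInner_sum_all] at h1
  rw [hn, CharCore.classInner_sum_all] at h2
  rw [hm, hn, CharCore.classInner_sum_sum]
  simp only [Complex.conj_natCast, ← Nat.cast_mul, ← Nat.cast_sum, Nat.cast_ne_zero] at h1 h2 ⊢
  intro h
  have := Finset.sum_eq_zero_iff.mp h χ (Finset.mem_univ _)
  exact (mul_eq_zero.mp this).elim h1 h2

variable {F : Type*} [Field F] [Fintype F] [DecidableEq F]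

local notation "SL2" => Matrix.SpecialLinearGroup (Fin 2) F

theorem eq_or_inv_of_inner {α β : MulChar F ℂ} (χ : Cfsg.IrrCharacter SL2)
    (h1 : Cfsg.classInner (psS α) (χ : SL2 → ℂ) ≠ 0) (h2 : Cfsg.classInner (psS β) (χ : SL2 → ℂ) ≠ 0) :
    α = β ∨ α = β⁻¹ := by
  classical
  by_contra h
  rw [not_or] at h
  exact classInner_ne_zero_of_common (isCharacter_psS α) (isCharacter_psS β) χ h1 h2
    (by rw [classInner_psS, if_neg h.1, if_neg h.2, add_zero])

theorem not_cusp_of_inner {α : MulChar F ℂ} (χ : Cfsg.IrrCharacter SL2)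
    (h : Cfsg.classInner (psS α) (χ : SL2 → ℂ) ≠ 0) : ¬ IsCuspS (χ : SL2 → ℂ) := by
  classical
  intro hc
  choose k hk using fun β : MulChar F ℂ =>
    CharCore.IsCharacter.exists_classInner_eq_natCast (isCharacter_psS β) (CharCore.irr_isCharacter χ)
  have h2 := sum_classInner_psS χ
  rw [show ∑ b : F, (χ : SL2 → ℂ) (uS b) = 0 from hc, map_zero, mul_zero,
    Finset.sum_congr rfl (fun β _ => (hk β)), ← Nat.cast_sum, Nat.cast_eq_zero] at h2
  exact h (by rw [hk α, Finset.sum_eq_zero_iff.mp h2 α (Finset.mem_univ _), Nat.cast_zero])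

/-- The trivial character. -/
noncomputable def trivIrr : Cfsg.IrrCharacter SL2 := ⟨trivS, CharCore.isIrrCharacter_one⟩

/-- The Steinberg character. -/
noncomputable def stIrr : Cfsg.IrrCharacter SL2 := ⟨stS, isIrr_stS⟩

theorem inner_trivIrr : Cfsg.classInner (psS (1 : MulChar F ℂ)) ((trivIrr (F := F)) : SL2 → ℂ) ≠ 0 := by
  show Cfsg.classInner (psS (1 : MulChar F ℂ)) trivS ≠ 0
  rw [classInner_psS_one]
  exact one_ne_zero

theorem stIrr_ne_trivIrr : (stIrr : Cfsg.IrrCharacter SL2) ≠ trivIrr := fun h => by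
  have := congrArg (fun χ : Cfsg.IrrCharacter SL2 => (χ : SL2 → ℂ) 1) h
  simp [stIrr, trivIrr, stS_one] at this
  exact (Fintype.one_lt_card (α := F)).ne' this

theorem inner_stIrr : Cfsg.classInner (psS (1 : MulChar F ℂ)) ((stIrr (F := F)) : SL2 → ℂ) ≠ 0 := by
  classical
  show Cfsg.classInner (psS (1 : MulChar F ℂ)) stS ≠ 0
  rw [show psS (1 : MulChar F ℂ) = trivS + stS by rw [stS]; abel, CharCore.classInner_add_left,
    show Cfsg.classInner (stS : SL2 → ℂ) stS = 1 from CharCore.classInner_irr_self (stIrr (F := F)),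
    show Cfsg.classInner (trivS : SL2 → ℂ) stS = 0 from
      CharCore.classInner_irr_of_ne (stIrr_ne_trivIrr (F := F)).symm]
  simp

/-- The halves of the principal series. -/
noncomputable def pairSetS : Finset (Cfsg.IrrCharacter SL2) :=
  open Classical in Finset.univ.filter fun χ =>
    ∃ α : MulChar F ℂ, α ^ 2 = 1 ∧ α ≠ 1 ∧ Cfsg.classInner (psS α) (χ : SL2 → ℂ) ≠ 0

theorem mem_psSetS {χ : Cfsg.IrrCharacter SL2} :
    χ ∈ psSetS ↔ ∃ α : MulChar F ℂ, α ^ 2 ≠ 1 ∧ (χ : SL2 → ℂ) = psS α := by simp [psSetS]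

theorem mem_pairSetS {χ : Cfsg.IrrCharacter SL2} :
    χ ∈ pairSetS ↔ ∃ α : MulChar F ℂ, α ^ 2 = 1 ∧ α ≠ 1 ∧ Cfsg.classInner (psS α) (χ : SL2 → ℂ) ≠ 0 := by
  simp [pairSetS]

theorem mem_cuspSetS {χ : Cfsg.IrrCharacter SL2} : χ ∈ cuspSetS ↔ IsCuspS (χ : SL2 → ℂ) := by
  simp [cuspSetS]

theorem inner_of_mem_psSetS {χ : Cfsg.IrrCharacter SL2} (h : χ ∈ psSetS) :
    ∃ α : MulChar F ℂ, α ^ 2 ≠ 1 ∧ Cfsg.classInner (psS α) (χ : SL2 → ℂ) ≠ 0 := by
  classical
  obtain ⟨α, hα, e⟩ := mem_psSetS.mp h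
  refine ⟨α, hα, ?_⟩
  rw [← e, CharCore.classInner_irr_self]
  exact one_ne_zero

theorem cases_mem (χ : Cfsg.IrrCharacter SL2) :
    χ = trivIrr ∨ χ = stIrr ∨ χ ∈ psSetS ∨ χ ∈ pairSetS ∨ χ ∈ cuspSetS := by
  rcases cases_SL χ with h | h | h | h | h
  · exact Or.inr (Or.inr (Or.inr (Or.inr (mem_cuspSetS.mpr h))))
  · exact Or.inl (Subtype.ext h)
  · exact Or.inr (Or.inl (Subtype.ext h))
  · exact Or.inr (Or.inr (Or.inl (mem_psSetS.mpr h)))
  · exact Or.inr (Or.inr (Or.inr (Or.inl (mem_pairSetS.mpr h))))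

theorem sum_split {M : Type*} [AddCommMonoid M] (f : Cfsg.IrrCharacter SL2 → M) :
    ∑ χ, f χ = f trivIrr + f stIrr + ∑ χ ∈ psSetS, f χ + ∑ χ ∈ pairSetS, f χ + ∑ χ ∈ cuspSetS, f χ := by
  classical
  have n1 : ∀ α : MulChar F ℂ, α ≠ 1 → ∀ χ : Cfsg.IrrCharacter SL2,
      Cfsg.classInner (psS α) (χ : SL2 → ℂ) ≠ 0 → χ ≠ trivIrr ∧ χ ≠ stIrr := by
    intro α hα χ h
    constructor <;> rintro rfl
    · exact hα ((eq_or_inv_of_inner _ h inner_trivIrr).elim id (fun e => by simpa using e))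
    · exact hα ((eq_or_inv_of_inner _ h inner_stIrr).elim id (fun e => by simpa using e))
  have hpair : ∀ χ ∈ pairSetS (F := F), χ ≠ trivIrr ∧ χ ≠ stIrr := fun χ h => by
    obtain ⟨α, -, hα, hne⟩ := mem_pairSetS.mp h
    exact n1 α hα χ hne
  have hps : ∀ χ ∈ psSetS (F := F), χ ≠ trivIrr ∧ χ ≠ stIrr := fun χ h => by
    obtain ⟨α, hα, hne⟩ := inner_of_mem_psSetS h
    exact n1 α (fun e => hα (by rw [e, one_pow])) χ hne
  have hcusp : ∀ χ ∈ cuspSetS (F := F), χ ≠ trivIrr ∧ χ ≠ stIrr := fun χ h => by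
    refine ⟨?_, ?_⟩ <;> rintro rfl
    · exact not_cusp_of_inner _ inner_trivIrr (mem_cuspSetS.mp h)
    · exact not_cusp_of_inner _ inner_stIrr (mem_cuspSetS.mp h)
  have d1 : Disjoint (psSetS (F := F)) pairSetS := Finset.disjoint_left.mpr fun χ a b => by
    obtain ⟨α, hα, h1⟩ := inner_of_mem_psSetS a
    obtain ⟨β, hβ, -, h2⟩ := mem_pairSetS.mp b
    apply hα
    rcases eq_or_inv_of_inner χ h1 h2 with rfl | rfl
    · exact hβ
    · rw [inv_pow, hβ, inv_one]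
  have d2 : Disjoint (psSetS (F := F) ∪ pairSetS) cuspSetS := Finset.disjoint_left.mpr fun χ a b => by
    rcases Finset.mem_union.mp a with a | a
    · obtain ⟨α, -, h1⟩ := inner_of_mem_psSetS a
      exact not_cusp_of_inner χ h1 (mem_cuspSetS.mp b)
    · obtain ⟨α, -, -, h1⟩ := mem_pairSetS.mp a
      exact not_cusp_of_inner χ h1 (mem_cuspSetS.mp b)
  have hu : (Finset.univ : Finset (Cfsg.IrrCharacter SL2)) =
      insert trivIrr (insert stIrr (psSetS ∪ pairSetS ∪ cuspSetS)) := by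
    ext χ
    have := cases_mem χ
    simp only [Finset.mem_univ, true_iff, Finset.mem_insert, Finset.mem_union]
    tauto
  rw [hu, Finset.sum_insert, Finset.sum_insert, Finset.sum_union d2, Finset.sum_union d1]
  · abel
  · simp only [Finset.mem_union, not_or]
    exact ⟨⟨fun h => (hps _ h).2 rfl, fun h => (hpair _ h).2 rfl⟩, fun h => (hcusp _ h).2 rfl⟩
  · simp only [Finset.mem_insert, Finset.mem_union, not_or]
    exact ⟨stIrr_ne_trivIrr.symm, ⟨fun h => (hps _ h).1 rfl, fun h => (hpair _ h).1 rfl⟩,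
      fun h => (hcusp _ h).1 rfl⟩

theorem card_split : Nat.card (Cfsg.IrrCharacter SL2) =
    2 + (psSetS (F := F)).card + (pairSetS (F := F)).card + (cuspSetS (F := F)).card := by
  rw [Nat.card_eq_fintype_card, ← Finset.card_univ, Finset.card_eq_sum_ones, sum_split]
  simp

theorem degree_sq_split : (Nat.card SL2 : ℂ) = 1 + (Fintype.card F : ℂ) ^ 2 +
    (psSetS (F := F)).card * ((Fintype.card F : ℂ) + 1) ^ 2 +
    ∑ χ ∈ pairSetS (F := F), (χ : SL2 → ℂ) 1 ^ 2 + ∑ χ ∈ cuspSetS (F := F), (χ : SL2 → ℂ) 1 ^ 2 := by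
  rw [← CharCore.sum_degree_sq, sum_split]
  congr 2
  rw [Finset.sum_congr rfl (fun χ h => by
    obtain ⟨α, -, e⟩ := mem_psSetS.mp h
    rw [e, psS_one_apply]), Finset.sum_const, nsmul_eq_mul]
  simp [trivIrr, stIrr, stS_one]

theorem psS_upper (α : MulChar F ℂ) {g : SL2} (h10 : sm g 1 0 = 0) (heq : sm g 0 0 = sm g 1 1)
    (h01 : sm g 0 1 ≠ 0) : psS α g = α (sm g 0 0) := by
  rw [psS_apply, if_pos h10, Finset.sum_eq_zero, add_zero]
  intro c _
  exact if_neg (by simp [fixRoot, h10, heq, h01])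

theorem stS_values (g : SL2) :
    (sm g 0 1 = 0 → sm g 1 0 = 0 → sm g 0 0 ^ 2 ≠ 1 → stS g = 1) ∧
    ((∀ (c : F) (v : Fin 2 → F), v ≠ 0 → (sm g).mulVec v ≠ c • v) → stS g = -1) ∧
    (sm g 1 0 = 0 → sm g 0 0 = sm g 1 1 → sm g 0 1 ≠ 0 → stS g = 0) := by
  have one_app : ∀ h10 : sm g 1 0 = 0, (1 : MulChar F ℂ) (sm g 0 0) = 1 := fun h10 => by
    have hd : (sm g).det = 1 := g.2
    rw [Matrix.det_fin_two, h10, mul_zero, sub_zero] at hd
    exact MulChar.one_apply (isUnit_iff_ne_zero.mpr (left_ne_zero_of_mul_eq_one hd))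
  refine ⟨fun a b c => ?_, fun a => ?_, fun a b c => ?_⟩
  · have hd : (1 : MulChar F ℂ) (sm g 1 1) = 1 := by
      have hd : (sm g).det = 1 := g.2
      rw [Matrix.det_fin_two, b, mul_zero, sub_zero] at hd
      exact MulChar.one_apply (isUnit_iff_ne_zero.mpr (right_ne_zero_of_mul_eq_one hd))
    simp [stS, trivS, psS_diag _ a b c, one_app b, hd]
  · simp [stS, trivS, psS_elliptic _ a]
  · simp [stS, trivS, psS_upper _ a b c, one_app a]

end Cfsg.Agent.Char2x2
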